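import Groth.Agent.Lefpen.H121.Depth2
import Groth.Agent.Lefpen.H718.JacCI
import Groth.Agent.Lefpen.H708.Geo
import Groth.Agent.Lefpen.H716.CIGeom

/-!
# Sections of `O_Y(e)` on a smooth complete intersection of positive dimension come from forms (chart form)

`Y = V(G_1, …, G_d) ⊆ P^N_k` smooth of relative dimension `n ≥ 1`, `N = n + d`, `k` infinite.  A family
`s_j ∈ Γ(Y, Y ∩ D_+(T_j))` with `s_i (T_j/T_i)^w = s_j (T_j/T_i)^u` on the overlaps is `s_j = H / T_j^{u-w}` for a form
`H` of degree `u - w` if `w ≤ u`, and is zero if `u < w`.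
-/

set_option autoImplicit false
universe u

open CategoryTheory AlgebraicGeometry Limits TopologicalSpace Opposite MvPolynomial

namespace Groth.Agent.Lefpen.H121.ChartLift

open LefPen Groth.Agent.Lefpen.H718.Chart Groth.Agent.Lefpen.H705.HypIdeal Groth.Agent.Lefpen.H705.SecIdeal
open Groth.Agent.Lefpen.H705.ChartPoly Groth.Agent.Sga5 Groth.Agent.Fdesc.LocGen

section poly

variable {k : Type u} [Field k] {N : ℕ}

/-- Homogenization in all large degrees. -/
theorem exists_homogenization (j : Fin (N + 1)) (p : MvPolynomial (Fin N) k) :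
    ∃ M₀ : ℕ, ∀ M, M₀ ≤ M → ∃ F : MvPolynomial (Fin (N + 1)) k, F.IsHomogeneous M ∧
      ProjChart.dehom N k j F = p := by
  induction p using MvPolynomial.induction_on with
  | C c =>
    refine ⟨0, fun M _ => ⟨C c * X j ^ M, ?_, ?_⟩⟩
    · simpa using (isHomogeneous_C (Fin (N + 1)) c).mul ((isHomogeneous_X k j).pow M)
    · simp
  | add p q hp hq =>
    obtain ⟨M₁, h1⟩ := hp
    obtain ⟨M₂, h2⟩ := hq
    refine ⟨max M₁ M₂, fun M hM => ?_⟩
    obtain ⟨F₁, hF₁, e1⟩ := h1 M ((le_max_left _ _).trans hM)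
    obtain ⟨F₂, hF₂, e2⟩ := h2 M ((le_max_right _ _).trans hM)
    exact ⟨F₁ + F₂, hF₁.add hF₂, by rw [map_add, e1, e2]⟩
  | mul_X p l hp =>
    obtain ⟨M₁, h1⟩ := hp
    refine ⟨M₁ + 1, fun M hM => ?_⟩
    obtain ⟨F₁, hF₁, e1⟩ := h1 (M - 1) (by omega)
    refine ⟨F₁ * X (j.succAbove l), ?_, by rw [map_mul, e1, ProjChart.dehom_X]⟩
    have := hF₁.mul (isHomogeneous_X k (j.succAbove l))
    rwa [Nat.sub_add_cancel (by omega)] at this

theorem dehom_injOn (j : Fin (N + 1)) {D : ℕ} {F F' : MvPolynomial (Fin (N + 1)) k} (hF : F.IsHomogeneous D)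
    (hF' : F'.IsHomogeneous D) (h : ProjChart.dehom N k j F = ProjChart.dehom N k j F') : F = F' := by
  have h1 := ProjChart.val_ofPoly_dehom N k j D F hF
  have h2 := ProjChart.val_ofPoly_dehom N k j D F' hF'
  rw [h, h2] at h1
  have hinj : Function.Injective (algebraMap (MvPolynomial (Fin (N + 1)) k)
      (Localization.Away (X j : MvPolynomial (Fin (N + 1)) k))) :=
    IsLocalization.injective _ (powers_le_nonZeroDivisors_of_noZeroDivisors (X_ne_zero j))
  exact (hinj h1).symm

theorem exists_pow_mul_mem {d : ℕ} (G : Fin d → MvPolynomial (Fin (N + 1)) k) (a : Fin d → ℕ)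
    (hG : ∀ l, (G l).IsHomogeneous (a l)) (j : Fin (N + 1)) {D : ℕ} {F : MvPolynomial (Fin (N + 1)) k}
    (hF : F.IsHomogeneous D)
    (h : ProjChart.dehom N k j F ∈ Ideal.span (Set.range fun l => ProjChart.dehom N k j (G l))) :
    ∃ R : ℕ, X j ^ R * F ∈ Ideal.span (Set.range G) := by
  obtain ⟨q, hq⟩ := Ideal.mem_span_range_iff_exists_fun.1 h
  choose M₀ hM₀ using fun l => exists_homogenization j (q l)
  let M : ℕ := D + ∑ l, (M₀ l + a l)
  have hM : ∀ l, M₀ l + a l ≤ M := fun l =>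
    (Finset.single_le_sum (f := fun l => M₀ l + a l) (fun _ _ => Nat.zero_le _) (Finset.mem_univ l)).trans
      (Nat.le_add_left _ _)
  choose Q hQ hQ' using fun l => hM₀ l (M - a l) (by have := hM l; omega)
  refine ⟨M - D, ?_⟩
  have h1 : X j ^ (M - D) * F = ∑ l, Q l * G l := by
    apply dehom_injOn j (D := M)
    · have := ((isHomogeneous_X k j).pow (M - D)).mul hF
      rwa [one_mul, Nat.sub_add_cancel (Nat.le_add_right _ _)] at this
    · refine IsHomogeneous.sum _ _ _ fun l _ => ?_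
      have := (hQ l).mul (hG l)
      rwa [Nat.sub_add_cancel (by have := hM l; omega)] at this
    · rw [map_mul, map_pow, ProjChart.dehom_X_self, one_pow, one_mul, ← hq, map_sum]
      refine Finset.sum_congr rfl fun l _ => ?_
      rw [map_mul, hQ']
  rw [h1]
  exact sum_mem fun l _ => Ideal.mul_mem_left _ _ (Ideal.subset_span ⟨l, rfl⟩)

end poly

variable {N d : ℕ} {k : Type u} [Field k] {a : Fin d → ℕ} (G : ∀ j : Fin d, Form N k (a j))

/-- The function `F / T_j^D` on `Y ∩ D_+(T_j)` for a polynomial `F`. -/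
noncomputable def fn (j : Fin (N + 1)) : MvPolynomial (Fin (N + 1)) k →+* Γ(Y G, ychart G j) :=
  (toY G j).comp (ProjChart.dehom N k j)

theorem fn_eq (j : Fin (N + 1)) {D : ℕ} (F : Form N k D) :
    fn G j F.1 = ((yι G).app (chart N k j)).hom (LefPen.dehom F j) := by
  rw [dehom_eq]
  rfl

theorem fn_eq_eqn (j : Fin (N + 1)) {D : ℕ} (F : Form N k D) :
    fn G j F.1 = eqn (yι G) j (ychart G j) le_rfl F := by
  rw [fn_eq, eqn, Scheme.Hom.app_eq_appLE]

theorem fn_X_self (j : Fin (N + 1)) : fn G j (X j) = 1 := by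
  rw [fn, RingHom.comp_apply, ProjChart.dehom_X_self, map_one]

/-- Restriction commutes with pullback of functions. -/
theorem ores_app {X Z : Scheme.{u}} (f : X ⟶ Z) {U V : Z.Opens} (h : V ≤ U) (s : Γ(Z, U)) :
    ores (f.preimage_mono h) ((f.app U).hom s) = (f.app V).hom (ores h s) := by
  have := f.naturality (homOfLE h).op
  exact (congr($(this).hom s)).symm

/-- Change of chart. -/
theorem ores_fn (i j : Fin (N + 1)) {D : ℕ} {F : MvPolynomial (Fin (N + 1)) k} (hF : F.IsHomogeneous D) :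
    ores (inf_le_left : ychart G i ⊓ ychart G j ≤ _) (fn G i F) =
      ores (inf_le_left : ychart G i ⊓ ychart G j ≤ _) (fn G i (X j)) ^ D *
        ores (inf_le_right : ychart G i ⊓ ychart G j ≤ _) (fn G j F) := by
  have h1 := ores_dehom (⟨F, hF⟩ : Form N k D) i j (chart N k i ⊓ chart N k j) inf_le_left inf_le_right
  have h2 := congrArg ((yι G).app (chart N k i ⊓ chart N k j)).hom h1
  rw [map_mul, map_pow, ← ores_app, ← ores_app, ← ores_app] at h2
  rw [← fn_eq G i (⟨F, hF⟩ : Form N k D), ← fn_eq G j (⟨F, hF⟩ : Form N k D), ratio,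
    ← fn_eq G i (⟨X j, X_mem N k j⟩ : Form N k 1)] at h2
  exact h2

theorem isUnit_ores_fn (i j : Fin (N + 1)) :
    IsUnit (ores (inf_le_left : ychart G i ⊓ ychart G j ≤ _) (fn G i (X j))) := by
  have h1 := isUnit_ores_ratio (r := N) (k := k) i j (chart N k i ⊓ chart N k j) inf_le_left inf_le_right
  have h2 := h1.map ((yι G).app (chart N k i ⊓ chart N k j)).hom
  rw [← ores_app, ratio, ← fn_eq G i (⟨X j, X_mem N k j⟩ : Form N k 1)] at h2
  exact h2

theorem inf_eq_basicOpen (i j : Fin (N + 1)) :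
    ychart G i ⊓ ychart G j = (Y G).basicOpen (fn G i (X j)) := by
  have h1 : chart N k i ⊓ chart N k j =
      (CohB1.ProjSpace N k).basicOpen (LefPen.dehom (⟨X j, X_mem N k j⟩ : Form N k 1) i) := by
    ext x
    constructor
    · rintro ⟨hx, hx'⟩
      exact (Groth.Agent.Lefpen.H716.CIGeom.mem_basicOpen_dehom_iff _ i x hx).2 hx'
    · intro hx
      have hx' : x ∈ chart N k i := (CohB1.ProjSpace N k).basicOpen_le _ hx
      exact ⟨hx', (Groth.Agent.Lefpen.H716.CIGeom.mem_basicOpen_dehom_iff _ i x hx').1 hx⟩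
  have h2 : ychart G i ⊓ ychart G j = yι G ⁻¹ᵁ (chart N k i ⊓ chart N k j) := rfl
  rw [h2, h1, Scheme.preimage_basicOpen, fn_eq G i (⟨X j, X_mem N k j⟩ : Form N k 1)]

/-- A form vanishing on `Y ∩ D_+(T_i) ∩ D_+(T_j)` is killed by a power of `T_i T_j` modulo the `G_l`. -/
theorem exists_pow_mul_mem_span (i j : Fin (N + 1)) {D : ℕ} {F : MvPolynomial (Fin (N + 1)) k}
    (hF : F.IsHomogeneous D)
    (h : ores (inf_le_left : ychart G i ⊓ ychart G j ≤ _) (fn G i F) = 0) :
    ∃ R₀ : ℕ, ∀ R, R₀ ≤ R → (X i * X j) ^ R * F ∈ Ideal.span (Set.range fun l => (G l).1) := by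
  have h1 : ores ((Y G).basicOpen_le (fn G i (X j))) (fn G i F) = 0 := by
    have h2 := congrArg (ores (inf_eq_basicOpen G i j).ge) h
    rw [ores_ores, map_zero] at h2
    exact h2
  obtain ⟨n, hn⟩ := exists_pow_mul_eq_zero_of_res_basicOpen_eq_zero_of_isAffineOpen (Y G)
    (isAffineOpen_ychart G i) (fn G i F) (fn G i (X j)) h1
  rw [← map_pow, ← map_mul] at hn
  have h3 : ProjChart.dehom N k i (X j ^ n * F) ∈
      Ideal.span (Set.range fun l => ProjChart.dehom N k i (G l).1) := by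
    rw [← ker_toY]
    exact hn
  have hF' : (X j ^ n * F).IsHomogeneous (n + D) := by
    have := ((isHomogeneous_X k j).pow n).mul hF
    rwa [one_mul] at this
  obtain ⟨m, hm⟩ := exists_pow_mul_mem (fun l => (G l).1) a (fun l => (G l).2) i hF' h3
  refine ⟨max m n, fun R hR => ?_⟩
  have h4 : (X i * X j) ^ R * F = (X i ^ (R - m) * X j ^ (R - n)) * (X i ^ m * (X j ^ n * F)) := by
    have e1 : R = (R - m) + m := by have := (le_max_left m n).trans hR; omega
    have e2 : R = (R - n) + n := by have := (le_max_right m n).trans hR; omega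
    rw [mul_pow]
    conv_lhs => rw [show (X i : MvPolynomial (Fin (N + 1)) k) ^ R = X i ^ (R - m) * X i ^ m by
      rw [← pow_add, ← e1], show (X j : MvPolynomial (Fin (N + 1)) k) ^ R = X j ^ (R - n) * X j ^ n by
      rw [← pow_add, ← e2]]
    ring
  rw [h4]
  exact Ideal.mul_mem_left _ _ hm

theorem fn_eq_zero (j : Fin (N + 1)) {F : MvPolynomial (Fin (N + 1)) k}
    (h : F ∈ Ideal.span (Set.range fun l => (G l).1)) : fn G j F = 0 := by
  have h1 : Ideal.span (Set.range fun l => (G l).1) ≤ RingHom.ker (fn G j) := by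
    rw [Ideal.span_le]
    rintro _ ⟨l, rfl⟩
    change toY G j (ProjChart.dehom N k j (G l).1) = 0
    rw [← RingHom.mem_ker, ker_toY]
    exact Ideal.subset_span ⟨l, rfl⟩
  exact h1 h

/-- **Sections of `O_Y(e)` come from forms** (chart form). -/
theorem exists_form [Infinite k] {n : ℕ} (hN : N = n + d) (hn : 1 ≤ n) [SmoothOfRelativeDimension n (yStr G)]
    (ha : ∀ j, 1 ≤ a j) (u w : ℕ) (s : ∀ j, Γ(Y G, ychart G j))
    (hs : ∀ i j, ores (inf_le_left : ychart G i ⊓ ychart G j ≤ _) (s i * fn G i (X j) ^ w) =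
      ores (inf_le_right : ychart G i ⊓ ychart G j ≤ _) (s j) *
        ores (inf_le_left : ychart G i ⊓ ychart G j ≤ _) (fn G i (X j)) ^ u) :
    (w ≤ u → ∃ H : MvPolynomial (Fin (N + 1)) k, H.IsHomogeneous (u - w) ∧ ∀ j, s j = fn G j H) ∧
      (u < w → ∀ j, s j = 0) := by
  choose p hp using fun j => toY_surjective G j (s j)
  choose M₀ hM₀ using fun j => exists_homogenization j (p j)
  obtain ⟨M, hM⟩ : ∃ M, ∀ j, M₀ j ≤ M :=
    ⟨∑ j, M₀ j, fun j => Finset.single_le_sum (f := M₀) (fun _ _ => Nat.zero_le _) (Finset.mem_univ j)⟩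
  choose P hP hP' using fun j => hM₀ j M (hM j)
  have hsP : ∀ j, fn G j (P j) = s j := fun j => by
    rw [fn, RingHom.comp_apply, hP', hp]
  have hX : ∀ (i : Fin (N + 1)) (m : ℕ), ((X i : MvPolynomial (Fin (N + 1)) k) ^ m).IsHomogeneous m := fun i m => by
    simpa using (isHomogeneous_X k i).pow m
  let Fij : Fin (N + 1) → Fin (N + 1) → MvPolynomial (Fin (N + 1)) k := fun i j =>
    X j ^ (M + w) * (X i ^ u * P i) - X i ^ (M + w) * (X j ^ u * P j)
  have hFij : ∀ i j, (Fij i j).IsHomogeneous ((M + w) + (u + M)) := fun i j =>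
    ((hX j _).mul ((hX i _).mul (hP i))).sub ((hX i _).mul ((hX j _).mul (hP j)))
  have hzero : ∀ i j, ores (inf_le_left : ychart G i ⊓ ychart G j ≤ _) (fn G i (Fij i j)) = 0 := by
    intro i j
    have h1 := ores_fn G i j (hP j)
    have h2 := hs i j
    rw [← hsP, ← hsP, map_mul, map_pow] at h2
    simp only [Fij, map_sub, map_mul, map_pow, fn_X_self, one_pow, one_mul]
    rw [h1]
    linear_combination (ores (inf_le_left : ychart G i ⊓ ychart G j ≤ _) (fn G i (X j)) ^ M) * h2
  choose R₀ hR₀ using fun i j => exists_pow_mul_mem_span G i j (hFij i j) (hzero i j)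
  obtain ⟨R, hR⟩ : ∃ R, ∀ i j, R₀ i j ≤ R :=
    ⟨∑ i, ∑ j, R₀ i j, fun i j =>
      (Finset.single_le_sum (f := fun j => R₀ i j) (fun _ _ => Nat.zero_le _) (Finset.mem_univ j)).trans
      (Finset.single_le_sum (f := fun i => ∑ j, R₀ i j) (fun _ _ => Nat.zero_le _) (Finset.mem_univ i))⟩
  have hht : (d : ℕ∞) ≤ (Ideal.span (Set.range fun l => (G l).1)).height :=
    Groth.Agent.Lefpen.H718.JacCI.le_height_ci G hN
  have key := Depth2.exists_homogeneous_lift (fun l => (G l).1) a ha (fun l => (G l).2) hht (by omega)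
    (M + w + R) (R + u + M) (fun i => X i ^ (R + u) * P i) (fun i => (hX i _).mul (hP i)) (fun i j => by
      have h1 := hR₀ i j R (hR i j)
      have h2 : X j ^ (M + w + R) * (X i ^ (R + u) * P i) - X i ^ (M + w + R) * (X j ^ (R + u) * P j) =
          (X i * X j) ^ R * Fij i j := by
        simp only [Fij]
        ring
      rw [h2]
      exact h1)
  have hsP' : ∀ i, fn G i (X i ^ (R + u) * P i) = s i := fun i => by
    rw [map_mul, map_pow, fn_X_self, one_pow, one_mul, hsP]
  constructor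
  · intro hwu
    obtain ⟨h, hh, hh'⟩ := key.1 (by omega)
    refine ⟨h, ?_, fun i => ?_⟩
    · have : R + u + M - (M + w + R) = u - w := by omega
      rwa [this] at hh
    · have h1 := fn_eq_zero G i (hh' i)
      rw [map_sub, hsP', map_mul, map_pow, fn_X_self, one_pow, one_mul, sub_eq_zero] at h1
      exact h1
  · intro huw i
    have h1 := fn_eq_zero G i (key.2 (by omega) i)
    rwa [hsP'] at h1

end Groth.Agent.Lefpen.H121.ChartLift
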