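import Groth.Agent.Lefpen.H121.ChartLift
import Groth.Agent.FormalB.TwistGen
import Groth.Agent.Dix.IdealModCartier

/-!
# An effective Cartier ideal on a complete intersection whose module is `O_Y(e)` is cut out by a form

* `exists_gens`: generators `T_i^e` of `O(e)` on the charts of `P^N`, with their transition relation.
* `exists_form_of_iso`: `Y ⊆ P^N_k` a smooth complete intersection of dimension `≥ 1`, `C` an effective Cartier ideal
  sheaf on `Y` with `C ≅ O_Y(e)`: then `C` is the inverse image of the ideal of a hypersurface `V_+(H)`.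
-/

set_option autoImplicit false
universe u

open CategoryTheory AlgebraicGeometry Limits TopologicalSpace Opposite MvPolynomial

namespace Groth.Agent.Lefpen.H121.CurveForm

open LefPen Groth.Agent.Lefpen.H718.Chart Groth.Agent.Lefpen.H705.HypIdeal Groth.Agent.Lefpen.H705.SecIdeal
open Groth.Agent.Lefpen.H705.ChartPoly Groth.Agent.Sga5 Groth.Agent.Fdesc.LocGen
open Groth.Agent.Lefpen.H121.ChartLift Groth.Agent.FormalB Groth.Agent.Dix.IdealModCartier

section twist

variable {N : ℕ} {k : Type u} [Field k]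

theorem pw_rel (e : ℤ) (i j : Fin (N + 1)) (x : ProjectiveSpectrum (CohB1.polyGrading N k))
    (hi : (X i : MvPolynomial (Fin (N + 1)) k) ∉ x.asHomogeneousIdeal)
    (hj : (X j : MvPolynomial (Fin (N + 1)) k) ∉ x.asHomogeneousIdeal)
    (c : Twist.Loc (CohB1.polyGrading N k) x)
    (hc : c = Localization.mk (X j) ⟨X i, hi⟩) :
    c ^ e.toNat * TwistGen.pw (X i) e x hi = c ^ (-e).toNat * TwistGen.pw (X j) e x hj := by
  subst hc
  rw [TwistGen.pw, TwistGen.pw, Localization.mk_pow, Localization.mk_pow, Localization.mk_mul,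
    Localization.mk_mul, Localization.mk_eq_mk_iff, Localization.r_iff_exists]
  refine ⟨1, ?_⟩
  simp only [OneMemClass.coe_one, one_mul, Submonoid.coe_mul, SubmonoidClass.coe_pow]
  rcases le_total 0 e with he | he
  · have h1 : (-e).toNat = 0 := Int.toNat_of_nonpos (by omega)
    rw [h1]
    ring
  · have h1 : e.toNat = 0 := Int.toNat_of_nonpos he
    rw [h1]
    ring

/-- The generators `T_i^e` of `O(e)` on the charts. -/
theorem exists_gens_aux (e e' : ℤ) (h : ((1 : ℕ) : ℤ) * e = e') :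
    ∃ g : ∀ i : Fin (N + 1), Γ(Twist.twistProjSpace N k e', chart N k i), (∀ i, IsGen (g i)) ∧
      ∀ i j, ores (inf_le_left : chart N k i ⊓ chart N k j ≤ _) (ratio i j) ^ e.toNat •
          res _ (inf_le_left : chart N k i ⊓ chart N k j ≤ _) (g i) =
        ores (inf_le_left : chart N k i ⊓ chart N k j ≤ _) (ratio i j) ^ (-e).toNat •
          res _ (inf_le_right : chart N k i ⊓ chart N k j ≤ _) (g j) := by
  subst h
  refine ⟨fun i => TwistGen.gen (X_mem N k i) e _ le_rfl, fun i => TwistGen.isGen_gen _ e _ le_rfl, fun i j => ?_⟩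
  apply Subtype.ext
  funext x
  apply Subtype.ext
  have hc := dehom_val (⟨X j, X_mem N k j⟩ : Form N k 1) i ⟨x.1, x.2.1⟩
  have key := pw_rel e i j x.1 x.2.1 x.2.2 (((ratio i j).1 ⟨x.1, x.2.1⟩).val) (by
    rw [ratio]
    refine hc.trans ?_
    simp only [pow_one])
  have h1 : ∀ m : ℕ, ((((ratio i j).1 ⟨x.1, x.2.1⟩) ^ m).val : Twist.Loc (CohB1.polyGrading N k) x.1) =
      (((ratio i j).1 ⟨x.1, x.2.1⟩).val) ^ m := fun m => HomogeneousLocalization.val_pow _ m
  refine (Twist.coe_smul_val (𝒜 := CohB1.polyGrading N k) _ x.1 (((ratio i j).1 ⟨x.1, x.2.1⟩) ^ e.toNat) _).trans ?_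
  refine Eq.trans ?_ (Twist.coe_smul_val (𝒜 := CohB1.polyGrading N k) _ x.1
    (((ratio i j).1 ⟨x.1, x.2.1⟩) ^ (-e).toNat) _).symm
  rw [h1, h1]
  exact key

theorem exists_gens (e : ℤ) :
    ∃ g : ∀ i : Fin (N + 1), Γ(Twist.twistProjSpace N k e, chart N k i), (∀ i, IsGen (g i)) ∧
      ∀ i j, ores (inf_le_left : chart N k i ⊓ chart N k j ≤ _) (ratio i j) ^ e.toNat •
          res _ (inf_le_left : chart N k i ⊓ chart N k j ≤ _) (g i) =
        ores (inf_le_left : chart N k i ⊓ chart N k j ≤ _) (ratio i j) ^ (-e).toNat •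
          res _ (inf_le_right : chart N k i ⊓ chart N k j ≤ _) (g j) := by
  obtain ⟨g, hg, hg'⟩ := exists_gens_aux (N := N) (k := k) e e (by simp)
  exact ⟨g, hg, hg'⟩

end twist

variable {N d : ℕ} {k : Type u} [Field k] {a : Fin d → ℕ} (G : ∀ j : Fin d, Form N k (a j))

/-- The generators of `O_Y(e)` on the charts of `Y`. -/
theorem exists_gens_pullback (e : ℤ) :
    ∃ g : ∀ i : Fin (N + 1), Γ((Scheme.Modules.pullback (yι G)).obj (Twist.twistProjSpace N k e), ychart G i),
      (∀ i, IsGen (g i)) ∧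
      ∀ i j, ores (inf_le_left : ychart G i ⊓ ychart G j ≤ _) (fn G i (X j)) ^ e.toNat •
          res _ (inf_le_left : ychart G i ⊓ ychart G j ≤ _) (g i) =
        ores (inf_le_left : ychart G i ⊓ ychart G j ≤ _) (fn G i (X j)) ^ (-e).toNat •
          res _ (inf_le_right : ychart G i ⊓ ychart G j ≤ _) (g j) := by
  obtain ⟨g, hg, hg'⟩ := exists_gens (N := N) (k := k) e
  refine ⟨fun i => pullSec (yι G) (g i), fun i => (hg i).pullSec (yι G), fun i j => ?_⟩
  have h1 := congrArg (pullSec (yι G)) (hg' i j)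
  rw [pullSec_smul, pullSec_smul, ← res_pullSec, ← res_pullSec] at h1
  have h2 : ∀ m : ℕ, ((yι G).app (chart N k i ⊓ chart N k j)
      (ores (inf_le_left : chart N k i ⊓ chart N k j ≤ _) (ratio i j) ^ m)) =
      ores (inf_le_left : ychart G i ⊓ ychart G j ≤ _) (fn G i (X j)) ^ m := by
    intro m
    rw [fn_eq G i (⟨X j, X_mem N k j⟩ : Form N k 1)]
    refine (map_pow ((yι G).app (chart N k i ⊓ chart N k j)).hom _ m).trans ?_
    congr 1
    exact (ores_app (yι G) (inf_le_left : chart N k i ⊓ chart N k j ≤ chart N k i) (ratio i j)).symm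
  rw [h2, h2] at h1
  exact h1

/-- **A Cartier divisor on a complete intersection with ideal `≅ O_Y(e)` is cut out by a form.** -/
theorem exists_form_of_iso [Infinite k] {n : ℕ} (hN : N = n + d) (hn : 1 ≤ n) [SmoothOfRelativeDimension n (yStr G)]
    (ha : ∀ j, 1 ≤ a j) [Nonempty (Y G)] (C : (Y G).IdealSheafData) (e : ℤ)
    (φ : ClSub.idealMod C ≅ (Scheme.Modules.pullback (yι G)).obj (Twist.twistProjSpace N k e)) :
    ∃ (m : ℕ) (H : Form N k m), C = (hypIdeal H).comap (yι G) := by
  obtain ⟨g, hg, hrel⟩ := exists_gens_pullback G e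
  let t : ∀ i : Fin (N + 1), Γ(ClSub.idealMod C, ychart G i) := fun i => φ.inv.app _ (g i)
  have ht : ∀ i, IsGen (t i) := fun i => (hg i).app φ.inv
  have htrel : ∀ i j, ores (inf_le_left : ychart G i ⊓ ychart G j ≤ _) (fn G i (X j)) ^ e.toNat •
          res _ (inf_le_left : ychart G i ⊓ ychart G j ≤ _) (t i) =
        ores (inf_le_left : ychart G i ⊓ ychart G j ≤ _) (fn G i (X j)) ^ (-e).toNat •
          res _ (inf_le_right : ychart G i ⊓ ychart G j ≤ _) (t j) := by
    intro i j
    have h1 := congrArg (φ.inv.app (ychart G i ⊓ ychart G j)) (hrel i j)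
    rw [Scheme.Modules.Hom.app_smul, Scheme.Modules.Hom.app_smul, app_res, app_res] at h1
    exact h1
  let f : ∀ i : Fin (N + 1), Γ(Y G, ychart G i) := fun i => val C (t i)
  have hf : ∀ i, GenOn C (f i) := fun i => genOn_of_isGen (ht i)
  have hfrel : ∀ i j, ores (inf_le_left : ychart G i ⊓ ychart G j ≤ _) (f i * fn G i (X j) ^ e.toNat) =
      ores (inf_le_right : ychart G i ⊓ ychart G j ≤ _) (f j) *
        ores (inf_le_left : ychart G i ⊓ ychart G j ≤ _) (fn G i (X j)) ^ (-e).toNat := by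
    intro i j
    have h1 := congrArg (val C) (htrel i j)
    rw [val_smul, val_smul, val_res, val_res] at h1
    rw [map_mul, map_pow, mul_comm, h1, mul_comm]
  have key := exists_form G hN hn ha (-e).toNat e.toNat f hfrel
  have hfC : ∀ i, C.ideal ⟨ychart G i, isAffineOpen_ychart G i⟩ = Ideal.span {f i} := by
    intro i
    have h1 := (hf i ⟨ychart G i, isAffineOpen_ychart G i⟩ le_rfl).2
    rwa [ores_refl] at h1
  have hf0 : ∀ i, f i ∈ nonZeroDivisors Γ(Y G, ychart G i) := by
    intro i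
    have h1 := (hf i ⟨ychart G i, isAffineOpen_ychart G i⟩ le_rfl).1
    rwa [ores_refl] at h1
  rcases lt_or_ge (-e).toNat e.toNat with hlt | hge
  · -- all local equations vanish: impossible on a nonempty scheme
    exfalso
    have h0 := key.2 hlt
    obtain ⟨y⟩ := ‹Nonempty (Y G)›
    have hy : y ∈ ⨆ j : Fin (N + 1), ychart G j := by
      rw [Groth.Agent.Lefpen.H708.Geo.iSup_preimage_chart (yι G)]; trivial
    obtain ⟨j, hj⟩ := Opens.mem_iSup.1 hy
    have hne : Nonempty (ychart G j) := ⟨⟨y, hj⟩⟩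
    have hnt : Nontrivial Γ(Y G, ychart G j) := inferInstance
    have h1 := hf0 j
    rw [h0 j] at h1
    exact zero_notMem_nonZeroDivisors h1
  · obtain ⟨H, hH, hHf⟩ := key.1 hge
    refine ⟨_, ⟨H, hH⟩, ?_⟩
    refine Scheme.IdealSheafData.ext_of_iSup_eq_top
      (fun i : Fin (N + 1) => ⟨ychart G i, isAffineOpen_ychart G i⟩)
      (Groth.Agent.Lefpen.H708.Geo.iSup_preimage_chart (yι G)) (fun i => ?_)
    rw [hfC]
    have h1 := secIdeal_ideal_of_le (yι G) ({⟨H, hH⟩} : Set (Form N k _)) i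
      ⟨ychart G i, isAffineOpen_ychart G i⟩ le_rfl
    rw [Set.image_singleton, ← fn_eq_eqn] at h1
    have h2 : secIdeal (yι G) ({⟨H, hH⟩} : Set (Form N k _)) = (hypIdeal (⟨H, hH⟩ : Form N k _)).comap (yι G) := by
      rw [secIdeal, iSup_singleton]
    rw [← h2, h1, hHf]

end Groth.Agent.Lefpen.H121.CurveForm
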