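import Groth.Agent.Lefpen.H728.RegSeq
import Groth.Agent.Lefpen.H718.Reg
import Mathlib.GroupTheory.CosetCover
import Mathlib.RingTheory.Ideal.KrullsHeightTheorem

/-!
# Two more linear forms extending a regular system of forms, and lifting of sections

`S = k[T_0..T_N]`, `k` infinite, `G_1, …, G_d` forms of positive degree generating an ideal `I` of height at least `d`.

* `exists_linear_form`: a linear form outside finitely many primes none of which contains all the variables.
* `exists_two_linear`: if `d + 2 ≤ N + 1` there are linear forms `a, b` with `a` a nonzerodivisor modulo `I` and `b` a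
  nonzerodivisor modulo `I + (a)`.
* `exists_lift`: if `T_j^R P_i ≡ T_i^R P_j` modulo `I` for all `i, j`, then `P_i ≡ T_i^R h` for one `h`.
* `exists_homogeneous_lift`: if moreover the `P_i` are forms of degree `D`, then `h` can be taken a form of degree
  `D - R` when `R ≤ D`, and `P_i ∈ I` when `D < R`.
-/

set_option autoImplicit false
universe u

open MvPolynomial

namespace Groth.Agent.Lefpen.H121.Depth2

section abs

variable {A : Type u} [CommRing A]

theorem mem_of_pow_mul {I : Ideal A} {a : A} (ha : ∀ f, a * f ∈ I → f ∈ I) (K : ℕ) :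
    ∀ f, a ^ K * f ∈ I → f ∈ I := by
  induction K with
  | zero => intro f hf; simpa using hf
  | succ K ih =>
    intro f hf
    rw [pow_succ', mul_assoc] at hf
    exact ih f (ha _ hf)

theorem mem_sup_pow {I : Ideal A} {a b : A} (ha : ∀ f, a * f ∈ I → f ∈ I)
    (hb : ∀ f, b * f ∈ I ⊔ Ideal.span {a} → f ∈ I ⊔ Ideal.span {a}) (K : ℕ) :
    ∀ f, b * f ∈ I ⊔ Ideal.span {a ^ K} → f ∈ I ⊔ Ideal.span {a ^ K} := by
  induction K with
  | zero => intro f _; simp
  | succ K ih =>
    intro f hf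
    have h1 : Ideal.span {a ^ (K + 1)} ≤ Ideal.span {a ^ K} := by
      rw [Ideal.span_singleton_le_span_singleton]
      exact pow_dvd_pow a (Nat.le_succ K)
    have h2 := ih f (sup_le_sup_left h1 I hf)
    obtain ⟨i, hi, j, hj, rfl⟩ := Submodule.mem_sup.1 h2
    obtain ⟨c, rfl⟩ := Ideal.mem_span_singleton'.1 hj
    obtain ⟨i', hi', j', hj', hij⟩ := Submodule.mem_sup.1 hf
    obtain ⟨c', rfl⟩ := Ideal.mem_span_singleton'.1 hj'
    have h3 : a ^ K * (b * c - c' * a) ∈ I := by
      have : a ^ K * (b * c - c' * a) = i' - b * i := by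
        rw [pow_succ] at hij
        linear_combination -hij
      rw [this]
      exact sub_mem hi' (Ideal.mul_mem_left _ _ hi)
    have h4 := mem_of_pow_mul ha K _ h3
    have h5 : b * c ∈ I ⊔ Ideal.span {a} := by
      have : b * c = (b * c - c' * a) + c' * a := by ring
      rw [this]
      exact add_mem (Ideal.mem_sup_left h4) (Ideal.mem_sup_right (Ideal.mul_mem_left _ _ (Ideal.mem_span_singleton_self a)))
    obtain ⟨i'', hi'', j'', hj'', h6⟩ := Submodule.mem_sup.1 (hb _ h5)
    obtain ⟨c'', rfl⟩ := Ideal.mem_span_singleton'.1 hj''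
    rw [← h6]
    refine add_mem (Ideal.mem_sup_left hi) ?_
    have : (i'' + c'' * a) * a ^ K = a ^ K * i'' + c'' * a ^ (K + 1) := by ring
    rw [this]
    exact add_mem (Ideal.mem_sup_left (Ideal.mul_mem_left _ _ hi''))
      (Ideal.mem_sup_right (Ideal.mul_mem_left _ _ (Ideal.mem_span_singleton_self _)))

/-- Lifting sections over the punctured spectrum along a regular sequence of length two. -/
theorem exists_lift {ι : Type*} [Finite ι] {I : Ideal A} {a b : A} (x : ι → A)
    (ha : ∀ f, a * f ∈ I → f ∈ I)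
    (hb : ∀ f, b * f ∈ I ⊔ Ideal.span {a} → f ∈ I ⊔ Ideal.span {a})
    (hax : a ∈ Ideal.span (Set.range x)) (hbx : b ∈ Ideal.span (Set.range x)) (R : ℕ) (P : ι → A)
    (hP : ∀ i j, x j ^ R * P i - x i ^ R * P j ∈ I) : ∃ h, ∀ i, P i - x i ^ R * h ∈ I := by
  have := Fintype.ofFinite ι
  have hrad : ∀ c ∈ Ideal.span (Set.range x), c ∈ (Ideal.span (Set.range fun i => x i ^ R)).radical := by
    intro c hc
    refine (Ideal.span_le.2 ?_) hc
    rintro _ ⟨i, rfl⟩
    exact ⟨R, Ideal.subset_span ⟨i, rfl⟩⟩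
  obtain ⟨K, hK⟩ := hrad a hax
  obtain ⟨L, hL⟩ := hrad b hbx
  obtain ⟨c, hc⟩ := (Ideal.mem_span_range_iff_exists_fun).1 hK
  obtain ⟨e, he⟩ := (Ideal.mem_span_range_iff_exists_fun).1 hL
  have hu : ∀ i, x i ^ R * (∑ j, c j * P j) - a ^ K * P i ∈ I := by
    intro i
    have : x i ^ R * (∑ j, c j * P j) - a ^ K * P i = ∑ j, - (c j * (x j ^ R * P i - x i ^ R * P j)) := by
      rw [← hc, Finset.mul_sum, Finset.sum_mul, ← Finset.sum_sub_distrib]
      refine Finset.sum_congr rfl fun j _ => ?_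
      ring
    rw [this]
    exact sum_mem fun j _ => neg_mem (Ideal.mul_mem_left _ _ (hP i j))
  have hw : b ^ L * (∑ j, c j * P j) ∈ I ⊔ Ideal.span {a ^ K} := by
    have : b ^ L * (∑ j, c j * P j) = (∑ j, e j * (x j ^ R * (∑ l, c l * P l) - a ^ K * P j)) +
        (∑ j, e j * P j) * a ^ K := by
      rw [← he, Finset.sum_mul, Finset.sum_mul, ← Finset.sum_add_distrib]
      refine Finset.sum_congr rfl fun j _ => ?_
      ring
    rw [this]
    exact add_mem (Ideal.mem_sup_left (sum_mem fun j _ => Ideal.mul_mem_left _ _ (hu j)))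
      (Ideal.mem_sup_right (Ideal.mul_mem_left _ _ (Ideal.mem_span_singleton_self _)))
  have hmem := mem_of_pow_mul (mem_sup_pow ha hb K) L _ hw
  obtain ⟨i₀, hi₀, j₀, hj₀, h0⟩ := Submodule.mem_sup.1 hmem
  obtain ⟨h, rfl⟩ := Ideal.mem_span_singleton'.1 hj₀
  refine ⟨h, fun i => mem_of_pow_mul ha K _ ?_⟩
  have : a ^ K * (P i - x i ^ R * h) = x i ^ R * i₀ - (x i ^ R * (∑ j, c j * P j) - a ^ K * P i) := by
    rw [← h0]; ring
  rw [this]
  exact sub_mem (Ideal.mul_mem_left _ _ hi₀) (hu i)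

end abs

section linear

variable {k : Type u} [Field k] {N : ℕ}

/-- The linear form with given coefficients. -/
noncomputable def lin (c : Fin (N + 1) → k) : MvPolynomial (Fin (N + 1)) k := ∑ i, c i • X i

theorem lin_isHomogeneous (c : Fin (N + 1) → k) : (lin c).IsHomogeneous 1 := by
  refine IsHomogeneous.sum _ _ _ fun i _ => ?_
  rw [smul_eq_C_mul]
  simpa using (isHomogeneous_C (Fin (N + 1)) (c i)).mul (isHomogeneous_X k i)

theorem lin_mem (c : Fin (N + 1) → k) :
    lin c ∈ Ideal.span (Set.range (X : Fin (N + 1) → MvPolynomial (Fin (N + 1)) k)) :=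
  sum_mem fun i _ => by
    rw [smul_eq_C_mul]
    exact Ideal.mul_mem_left _ _ (Ideal.subset_span ⟨i, rfl⟩)

theorem exists_linear_form [Infinite k] (s : Set (Ideal (MvPolynomial (Fin (N + 1)) k))) (hs : s.Finite)
    (h : ∀ p ∈ s, ∃ i, (X i : MvPolynomial (Fin (N + 1)) k) ∉ p) :
    ∃ c : Fin (N + 1) → k, ∀ p ∈ s, lin c ∉ p := by
  classical
  let L : (Fin (N + 1) → k) →ₗ[k] MvPolynomial (Fin (N + 1)) k :=
    ∑ i, (LinearMap.proj i : (Fin (N + 1) → k) →ₗ[k] k).smulRight (X i)
  have hL : ∀ c, L c = lin c := by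
    intro c
    simp [L, lin, LinearMap.sum_apply]
  let W : Ideal (MvPolynomial (Fin (N + 1)) k) → Submodule k (Fin (N + 1) → k) := fun p =>
    (p.restrictScalars k).comap L
  have h1 : (⊤ : Submodule k (Fin (N + 1) → k)) ∉ hs.toFinset.image W := by
    intro hmem
    obtain ⟨p, hp, hW⟩ := Finset.mem_image.1 hmem
    rw [Set.Finite.mem_toFinset] at hp
    obtain ⟨i, hi⟩ := h p hp
    apply hi
    have h2 : Pi.single i (1 : k) ∈ W p := by rw [hW]; trivial
    change L (Pi.single i 1) ∈ p at h2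
    rw [hL, lin, Finset.sum_eq_single i] at h2
    · simpa using h2
    · intro j _ hj
      rw [Pi.single_eq_of_ne hj, zero_smul]
    · intro hj; exact absurd (Finset.mem_univ _) hj
  have h3 := Subspace.biUnion_ne_univ_of_top_notMem h1
  obtain ⟨c, hc⟩ := (Set.ne_univ_iff_exists_notMem _).1 h3
  refine ⟨c, fun p hp hcp => hc ?_⟩
  simp only [Finset.mem_image, Set.Finite.mem_toFinset, Set.iUnion_exists, Set.biUnion_and',
    Set.iUnion_iUnion_eq_right, Set.mem_iUnion]
  refine ⟨p, hp, ?_⟩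
  change L c ∈ p
  rw [hL]
  exact hcp

theorem succ_le_height_sup (I : Ideal (MvPolynomial (Fin (N + 1)) k)) (a : MvPolynomial (Fin (N + 1)) k) (n : ℕ)
    (hI : (n : ℕ∞) ≤ I.height) (ha : ∀ p ∈ I.minimalPrimes, a ∉ p) :
    ((n + 1 : ℕ) : ℕ∞) ≤ (I ⊔ Ideal.span {a}).height := by
  rw [Ideal.height_eq_inf_minimalPrimes]
  refine le_iInf₂ fun Q hQ => ?_
  have hQp : Q.IsPrime := hQ.1.1
  have hIQ : I ≤ Q := le_sup_left.trans hQ.1.2
  have haQ : a ∈ Q := hQ.1.2 (Ideal.mem_sup_right (Ideal.mem_span_singleton_self a))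
  obtain ⟨p, hp, hpQ⟩ := Ideal.exists_minimalPrimes_le hIQ
  have hpp : p.IsPrime := hp.1.1
  have hlt : p < Q := lt_of_le_of_ne hpQ (fun h => ha p hp (h ▸ haQ))
  have h1 : (n : ℕ∞) ≤ p.height := hI.trans (Ideal.height_mono hp.1.2)
  have h2 : p.height + 1 ≤ Q.height := Ideal.height_add_one_le_of_lt_of_isPrime hlt
  push_cast
  exact (add_le_add_left h1 1).trans h2

theorem height_minimalPrime_le {d : ℕ} (G : Fin d → MvPolynomial (Fin (N + 1)) k)
    (p : Ideal (MvPolynomial (Fin (N + 1)) k)) (hp : p ∈ (Ideal.span (Set.range G)).minimalPrimes) :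
    p.height ≤ (d : ℕ∞) := by
  have h1 := Ideal.height_le_card_of_mem_minimalPrimes_span (Set.finite_range G) hp
  have h2 : (Set.range G).ncard ≤ d := by
    rw [← Set.image_univ]
    refine (Set.ncard_image_le Set.finite_univ).trans ?_
    simp [Set.ncard_univ]
  exact h1.trans (by exact_mod_cast h2)

theorem exists_extend [Infinite k] {d : ℕ} (G : Fin d → MvPolynomial (Fin (N + 1)) k)
    (hht : (d : ℕ∞) ≤ (Ideal.span (Set.range G)).height) (hd : d < N + 1) :
    ∃ c : Fin (N + 1) → k, ((d + 1 : ℕ) : ℕ∞) ≤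
      (Ideal.span (Set.range (Fin.snoc G (lin c) : Fin (d + 1) → MvPolynomial (Fin (N + 1)) k))).height := by
  obtain ⟨c, hc⟩ := exists_linear_form (k := k) (N := N) (Ideal.span (Set.range G)).minimalPrimes
    (Ideal.finite_minimalPrimes_of_isNoetherianRing _ _) (by
      intro p hp
      by_contra hcon
      push Not at hcon
      have hpp : p.IsPrime := hp.1.1
      have h1 := Groth.Agent.Lefpen.H718.Reg.le_height_irrelevant p hcon
      have h2 := h1.trans (height_minimalPrime_le G p hp)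
      rw [Nat.cast_le] at h2
      omega)
  refine ⟨c, ?_⟩
  have h3 : Ideal.span (Set.range (Fin.snoc G (lin c) : Fin (d + 1) → MvPolynomial (Fin (N + 1)) k)) =
      Ideal.span (Set.range G) ⊔ Ideal.span {lin c} := by
    rw [Fin.range_snoc, Set.insert_eq, Ideal.span_union, sup_comm]
  rw [h3]
  exact succ_le_height_sup _ _ _ hht hc

theorem exists_two_linear [Infinite k] {d : ℕ} (G : Fin d → MvPolynomial (Fin (N + 1)) k) (a : Fin d → ℕ)
    (ha : ∀ j, 1 ≤ a j) (hG : ∀ j, (G j).IsHomogeneous (a j))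
    (hht : (d : ℕ∞) ≤ (Ideal.span (Set.range G)).height) (hd : d + 1 < N + 1) :
    ∃ c e : Fin (N + 1) → k, (∀ f, lin c * f ∈ Ideal.span (Set.range G) → f ∈ Ideal.span (Set.range G)) ∧
      (∀ f, lin e * f ∈ Ideal.span (Set.range G) ⊔ Ideal.span {lin c} →
        f ∈ Ideal.span (Set.range G) ⊔ Ideal.span {lin c}) := by
  have key : ∀ {n : ℕ} (H : Fin n → MvPolynomial (Fin (N + 1)) k) (b : Fin n → ℕ) (hb : ∀ j, 1 ≤ b j)
      (hH : ∀ j, (H j).IsHomogeneous (b j)) (c : Fin (N + 1) → k)
      (hc : ((n + 1 : ℕ) : ℕ∞) ≤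
        (Ideal.span (Set.range (Fin.snoc H (lin c) : Fin (n + 1) → MvPolynomial (Fin (N + 1)) k))).height),
      ∀ f, lin c * f ∈ Ideal.span (Set.range H) → f ∈ Ideal.span (Set.range H) := by
    intro n H b hb hH c hc f hf
    have himg : (Fin.snoc H (lin c) : Fin (n + 1) → MvPolynomial (Fin (N + 1)) k) '' {j | j < Fin.last n} =
        Set.range H := by
      ext x
      constructor
      · rintro ⟨j, hj, rfl⟩
        obtain ⟨j, rfl⟩ | rfl := Fin.eq_castSucc_or_eq_last j
        · exact ⟨j, by simp⟩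
        · exact absurd (show Fin.last n < Fin.last n from hj) (lt_irrefl _)
      · rintro ⟨j, rfl⟩
        exact ⟨j.castSucc, Fin.castSucc_lt_last j, by simp⟩
    have h := Groth.Agent.Lefpen.H728.RegSeq.mem_of_mul_mem (k := k)
      (Fin.snoc H (lin c) : Fin (n + 1) → MvPolynomial (Fin (N + 1)) k)
      (Fin.snoc b 1 : Fin (n + 1) → ℕ) (fun j => by
        obtain ⟨j, rfl⟩ | rfl := Fin.eq_castSucc_or_eq_last j
        · simpa using hb j
        · simp) (fun j => by
        obtain ⟨j, rfl⟩ | rfl := Fin.eq_castSucc_or_eq_last j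
        · simpa using hH j
        · simpa using lin_isHomogeneous c) hc (Fin.last n) f
    rw [himg, Fin.snoc_last] at h
    exact h hf
  obtain ⟨c, hc⟩ := exists_extend G hht (by omega)
  obtain ⟨e, he⟩ := exists_extend (Fin.snoc G (lin c) : Fin (d + 1) → MvPolynomial (Fin (N + 1)) k) hc hd
  refine ⟨c, e, key G a ha hG c hc, ?_⟩
  have h := key (Fin.snoc G (lin c) : Fin (d + 1) → MvPolynomial (Fin (N + 1)) k)
    (Fin.snoc a 1 : Fin (d + 1) → ℕ) (fun j => by
        obtain ⟨j, rfl⟩ | rfl := Fin.eq_castSucc_or_eq_last j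
        · simpa using ha j
        · simp) (fun j => by
        obtain ⟨j, rfl⟩ | rfl := Fin.eq_castSucc_or_eq_last j
        · simpa using hG j
        · simpa using lin_isHomogeneous c) e he
  have h3 : Ideal.span (Set.range (Fin.snoc G (lin c) : Fin (d + 1) → MvPolynomial (Fin (N + 1)) k)) =
      Ideal.span (Set.range G) ⊔ Ideal.span {lin c} := by
    rw [Fin.range_snoc, Set.insert_eq, Ideal.span_union, sup_comm]
  rwa [h3] at h

end linear

section hom

variable {k : Type u} [Field k] {N : ℕ}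

attribute [local instance] MvPolynomial.gradedAlgebra

theorem homogeneousComponent_mem {d : ℕ} (G : Fin d → MvPolynomial (Fin (N + 1)) k) (a : Fin d → ℕ)
    (hG : ∀ j, (G j).IsHomogeneous (a j)) {f : MvPolynomial (Fin (N + 1)) k}
    (hf : f ∈ Ideal.span (Set.range G)) (n : ℕ) : homogeneousComponent n f ∈ Ideal.span (Set.range G) := by
  have h1 : (Ideal.span (Set.range G)).IsHomogeneous (homogeneousSubmodule (Fin (N + 1)) k) := by
    rw [← Set.image_univ]
    exact Groth.Agent.Lefpen.H728.RegSeq.isHomogeneous_span_image G a hG Set.univ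
  have h2 := h1 n hf
  rwa [← MvPolynomial.decomposition.decompose'_apply] 

/-- **Lifting of sections** for a regular system of forms in at least `d + 2` variables. -/
theorem exists_homogeneous_lift [Infinite k] {d : ℕ} (G : Fin d → MvPolynomial (Fin (N + 1)) k) (a : Fin d → ℕ)
    (ha : ∀ j, 1 ≤ a j) (hG : ∀ j, (G j).IsHomogeneous (a j))
    (hht : (d : ℕ∞) ≤ (Ideal.span (Set.range G)).height) (hd : d + 1 < N + 1) (R D : ℕ)
    (P : Fin (N + 1) → MvPolynomial (Fin (N + 1)) k) (hPD : ∀ i, (P i).IsHomogeneous D)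
    (hP : ∀ i j, X j ^ R * P i - X i ^ R * P j ∈ Ideal.span (Set.range G)) :
    (R ≤ D → ∃ h : MvPolynomial (Fin (N + 1)) k, h.IsHomogeneous (D - R) ∧
      ∀ i, P i - X i ^ R * h ∈ Ideal.span (Set.range G)) ∧
    (D < R → ∀ i, P i ∈ Ideal.span (Set.range G)) := by
  obtain ⟨c, e, hc, he⟩ := exists_two_linear G a ha hG hht hd
  obtain ⟨h, hh⟩ := exists_lift (X : Fin (N + 1) → MvPolynomial (Fin (N + 1)) k) hc he (lin_mem c)
    (lin_mem e) R P hP
  have hX : ∀ i : Fin (N + 1), ((X i : MvPolynomial (Fin (N + 1)) k) ^ R).IsHomogeneous R := fun i => by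
    simpa using (isHomogeneous_X k i).pow R
  refine ⟨fun hRD => ⟨homogeneousComponent (D - R) h, homogeneousComponent_isHomogeneous _ _, fun i => ?_⟩,
    fun hDR i => ?_⟩
  · have h1 := homogeneousComponent_mem G a hG (hh i) D
    rw [map_sub, homogeneousComponent_of_mem ((mem_homogeneousSubmodule _ _).2 (hPD i)), if_pos rfl] at h1
    have h2 := Groth.Agent.Lefpen.H728.RegSeq.homogeneousComponent_mul_of_isHomogeneous (hX i)
      (f := h) (D - R)
    rw [Nat.add_sub_cancel' hRD] at h2
    rwa [h2] at h1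
  · have h1 := homogeneousComponent_mem G a hG (hh i) D
    rw [map_sub, homogeneousComponent_of_mem ((mem_homogeneousSubmodule _ _).2 (hPD i)), if_pos rfl] at h1
    have h2 : homogeneousComponent D (X i ^ R * h) = 0 := by
      ext m
      rw [coeff_homogeneousComponent, coeff_zero]
      split_ifs with hm
      · rw [X_pow_eq_monomial, coeff_monomial_mul', if_neg]
        intro hle
        have h3 := Finsupp.degree_mono hle
        rw [Finsupp.degree_single, hm] at h3
        omega
      · rfl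
    rwa [h2, sub_zero] at h1

end hom

end Groth.Agent.Lefpen.H121.Depth2
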