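import Groth.Agent.Lefpen.H701.Rk
import Groth.Prelude.Def_LefPen
import Mathlib.RingTheory.MvPolynomial.EulerIdentity
import Mathlib.Algebra.Field.Subfield.Basic

/-!
# Generic forms: the Jacobian matrix has maximal rank at the common zeros

`G_1, …, G_d` forms of degrees `a_j ≥ 1` in `N + 1` variables over `k` whose coefficients, all together, are
algebraically independent over the prime field.  For every field extension `K / k` and every common zero `v` of the
`G_j` in `K^{N+1}` with `v_i = 1`, the rows `(∂ G_j / ∂ T_l (v))_{l ≠ i}` are linearly independent over `K`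
(count of transcendence degrees).
-/

set_option autoImplicit false
universe u

open MvPolynomial

namespace Groth.Agent.Lefpen.H121.GenericJac

open Groth.Agent.Lefpen.H701.Rk

section count

variable (k₀ : Type u) {K : Type u} [Field k₀] [Field K] [Algebra k₀ K]

theorem rk_empty : rk k₀ (∅ : Set K) = 0 := by
  have h := rk_le_encard k₀ (∅ : Set K)
  simpa using h

/-- Adding elements of the base field does not change the rank. -/
theorem rk_range_le_of_one {ι : Type} [Fintype ι] [DecidableEq ι] (y : ι → K) (i : ι) (hi : y i = 1) :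
    rk k₀ (Set.range y) ≤ ((Fintype.card ι - 1 : ℕ) : ℕ∞) := by
  have h1 : Set.range y ⊆ cl k₀ (Set.range fun l : {l : ι // l ≠ i} => y l.1) := by
    rintro _ ⟨l, rfl⟩
    by_cases hl : l = i
    · subst hl
      rw [hi, ← map_one (algebraMap k₀ K)]
      exact algebraMap_mem_cl k₀ _ 1
    · exact subset_cl k₀ _ ⟨⟨l, hl⟩, rfl⟩
  refine (rk_le_of_subset_cl k₀ h1).trans ?_
  refine (rk_range_le k₀ _).trans ?_
  rw [Fintype.card_subtype_compl]
  simp

end count

variable {k : Type u} [Field k] {N d : ℕ} {a : Fin d → ℕ}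

instance finite_deg (N e : ℕ) : Finite {m : Fin (N + 1) →₀ ℕ // m.degree = e} := by
  have h : Set.Finite {m : Fin (N + 1) →₀ ℕ | m.degree = e} :=
    (Finsupp.finite_of_degree_le (σ := Fin (N + 1)) e).subset fun m hm => le_of_eq hm
  exact h

noncomputable instance fintype_deg (N e : ℕ) : Fintype {m : Fin (N + 1) →₀ ℕ // m.degree = e} :=
  Fintype.ofFinite _

theorem eq_sum {e : ℕ} (p : MvPolynomial (Fin (N + 1)) k) (hp : p.IsHomogeneous e) :
    p = ∑ m : {m : Fin (N + 1) →₀ ℕ // m.degree = e}, (p.coeff m.1) • monomial m.1 (1 : k) := by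
  classical
  ext n
  rw [coeff_sum]
  simp only [coeff_smul, coeff_monomial, smul_eq_mul, mul_ite, mul_one, mul_zero]
  by_cases hn : n.degree = e
  · rw [Finset.sum_eq_single ⟨n, hn⟩]
    · simp
    · intro m _ hm
      rw [if_neg]
      intro h
      exact hm (Subtype.ext h)
    · intro h
      exact absurd (Finset.mem_univ _) h
  · rw [hp.coeff_eq_zero hn]
    symm
    refine Finset.sum_eq_zero fun m _ => ?_
    rw [if_neg]
    rintro rfl
    exact hn m.2

section

variable {K : Type u} [Field K] [Algebra k K]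

theorem aeval_eq_sum {e : ℕ} (v : Fin (N + 1) → K) (p : MvPolynomial (Fin (N + 1)) k)
    (hp : p.IsHomogeneous e) :
    aeval v p = ∑ m : {m : Fin (N + 1) →₀ ℕ // m.degree = e},
      algebraMap k K (p.coeff m.1) * aeval v (monomial m.1 (1 : k)) := by
  conv_lhs => rw [eq_sum p hp]
  rw [map_sum]
  refine Finset.sum_congr rfl fun m _ => ?_
  rw [map_smul, Algebra.smul_def]

theorem aeval_pderiv_eq_sum {e : ℕ} (v : Fin (N + 1) → K) (l : Fin (N + 1)) (p : MvPolynomial (Fin (N + 1)) k)
    (hp : p.IsHomogeneous e) :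
    aeval v (pderiv l p) = ∑ m : {m : Fin (N + 1) →₀ ℕ // m.degree = e},
      algebraMap k K (p.coeff m.1) * aeval v (pderiv l (monomial m.1 (1 : k))) := by
  conv_lhs => rw [eq_sum p hp]
  rw [map_sum, map_sum]
  refine Finset.sum_congr rfl fun m _ => ?_
  rw [Derivation.map_smul, map_smul, Algebra.smul_def]

/-- Value of a monomial. -/
noncomputable def mv (v : Fin (N + 1) → K) (m : Fin (N + 1) →₀ ℕ) : K := ∏ i, v i ^ m i

/-- Value of the `l`-th partial derivative of a monomial. -/
noncomputable def dmv (v : Fin (N + 1) → K) (l : Fin (N + 1)) (m : Fin (N + 1) →₀ ℕ) : K :=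
  (m l : K) * ∏ i, v i ^ (m i - (Finsupp.single l 1 : Fin (N + 1) →₀ ℕ) i)

theorem aeval_monomial_one (v : Fin (N + 1) → K) (m : Fin (N + 1) →₀ ℕ) :
    aeval v (monomial m (1 : k)) = mv v m := by
  rw [aeval_monomial, map_one, one_mul, Finsupp.prod_fintype _ _ (by simp)]
  rfl

theorem aeval_pderiv_monomial_one (v : Fin (N + 1) → K) (l : Fin (N + 1)) (m : Fin (N + 1) →₀ ℕ) :
    aeval v (pderiv l (monomial m (1 : k))) = dmv v l m := by
  rw [pderiv_monomial, aeval_monomial, one_mul, map_natCast, Finsupp.prod_fintype _ _ (by simp)]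
  rfl

end

/-- The linear conditions: `G_j(v) = 0` and `∑_j λ_j ∂_l G_j (v) = 0` for `l ≠ i`. -/
noncomputable def condMat {K : Type u} [Field K] (a : Fin d → ℕ) (v : Fin (N + 1) → K) (lam : Fin d → K)
    (i : Fin (N + 1)) :
    Matrix (Fin d ⊕ Fin N) (Σ j : Fin d, {m : Fin (N + 1) →₀ ℕ // m.degree = a j}) K := fun r jm =>
  match r with
  | Sum.inl j => if j = jm.1 then mv v jm.2.1 else 0
  | Sum.inr l => lam jm.1 * dmv v (i.succAbove l) jm.2.1

section surj

variable {K : Type u} [Field K]

theorem mv_single (v : Fin (N + 1) → K) (i : Fin (N + 1)) (e : ℕ) (hi : v i = 1) :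
    mv v (Finsupp.single i e) = 1 := by
  rw [mv]
  refine Finset.prod_eq_one fun l _ => ?_
  by_cases h : l = i
  · subst h; rw [hi, one_pow]
  · rw [Finsupp.single_eq_of_ne h, pow_zero]

theorem mv_add (v : Fin (N + 1) → K) (m n : Fin (N + 1) →₀ ℕ) : mv v (m + n) = mv v m * mv v n := by
  simp only [mv, Finsupp.add_apply, pow_add, Finset.prod_mul_distrib]

theorem mv_single_one (v : Fin (N + 1) → K) (l : Fin (N + 1)) :
    mv v (Finsupp.single l 1) = v l := by
  rw [mv, Finset.prod_eq_single l]
  · simp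
  · intro b _ hb
    rw [Finsupp.single_eq_of_ne hb, pow_zero]
  · simp

theorem dmv_single (v : Fin (N + 1) → K) {i l : Fin (N + 1)} (e : ℕ) (h : l ≠ i) :
    dmv v l (Finsupp.single i e) = 0 := by
  rw [dmv, Finsupp.single_eq_of_ne h, Nat.cast_zero, zero_mul]

theorem dmv_add_single (v : Fin (N + 1) → K) {i l : Fin (N + 1)} (e : ℕ) (hi : v i = 1) (h : l ≠ i)
    (l' : Fin (N + 1)) (h' : l' ≠ i) :
    dmv v l' (Finsupp.single i e + Finsupp.single l 1) = if l' = l then 1 else 0 := by
  rw [dmv]
  by_cases hl : l' = l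
  · subst hl
    rw [if_pos rfl]
    have h1 : (Finsupp.single i e + Finsupp.single l' 1 : Fin (N + 1) →₀ ℕ) l' = 1 := by
      rw [Finsupp.add_apply, Finsupp.single_eq_of_ne h, Finsupp.single_eq_same, zero_add]
    rw [h1, Nat.cast_one, one_mul]
    refine Finset.prod_eq_one fun b _ => ?_
    by_cases hb : b = i
    · subst hb; rw [hi, one_pow]
    · have : (Finsupp.single i e + Finsupp.single l' 1 : Fin (N + 1) →₀ ℕ) b -
          (Finsupp.single l' 1 : Fin (N + 1) →₀ ℕ) b = 0 := by
        rw [Finsupp.add_apply, Finsupp.single_eq_of_ne hb, zero_add, Nat.sub_self]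
      rw [this, pow_zero]
  · rw [if_neg hl]
    have h1 : (Finsupp.single i e + Finsupp.single l 1 : Fin (N + 1) →₀ ℕ) l' = 0 := by
      rw [Finsupp.add_apply, Finsupp.single_eq_of_ne h', Finsupp.single_eq_of_ne hl, zero_add]
    rw [h1, Nat.cast_zero, zero_mul]

theorem condMat_surjective (a : Fin d → ℕ) (v : Fin (N + 1) → K) (lam : Fin d → K)
    (i : Fin (N + 1)) (hi : v i = 1) (j₀ : Fin d) (hj : lam j₀ = 1) (ha : 1 ≤ a j₀) :
    Function.Surjective (condMat a v lam i).mulVec := by
  classical
  intro b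
  let β : Fin N → K := fun l => b (Sum.inr l)
  let α : Fin d → K := fun j => b (Sum.inl j) - if j = j₀ then ∑ l, β l * v (i.succAbove l) else 0
  let p : ∀ j : Fin d, {m : Fin (N + 1) →₀ ℕ // m.degree = a j} := fun j =>
    ⟨Finsupp.single i (a j), by simp⟩
  let q : Fin N → {m : Fin (N + 1) →₀ ℕ // m.degree = a j₀} := fun l =>
    ⟨Finsupp.single i (a j₀ - 1) + Finsupp.single (i.succAbove l) 1, by
      rw [map_add, Finsupp.degree_single, Finsupp.degree_single]; omega⟩
  refine ⟨∑ j, α j • Pi.single ⟨j, p j⟩ 1 + ∑ l, β l • Pi.single ⟨j₀, q l⟩ 1, ?_⟩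
  rw [Matrix.mulVec_add, Matrix.mulVec_sum, Matrix.mulVec_sum]
  simp_rw [Matrix.mulVec_smul, Matrix.mulVec_single_one]
  funext r
  rw [Pi.add_apply, Finset.sum_apply, Finset.sum_apply]
  simp only [Pi.smul_apply, smul_eq_mul, Matrix.col_apply]
  rcases r with j | l
  · have h1 : ∀ j', condMat a v lam i (Sum.inl j) ⟨j', p j'⟩ = if j = j' then 1 else 0 := by
      intro j'
      change (if j = j' then mv v (Finsupp.single i (a j')) else 0) = _
      rw [mv_single v i _ hi]
    have h2 : ∀ l, condMat a v lam i (Sum.inl j) ⟨j₀, q l⟩ =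
        if j = j₀ then v (i.succAbove l) else 0 := by
      intro l
      change (if j = j₀ then mv v (Finsupp.single i (a j₀ - 1) + Finsupp.single (i.succAbove l) 1) else 0) = _
      rw [mv_add, mv_single v i _ hi, mv_single_one, one_mul]
    simp_rw [h1, h2]
    rw [Finset.sum_eq_single j (fun b _ hb => by rw [if_neg (Ne.symm hb), mul_zero])
      (fun h => absurd (Finset.mem_univ _) h), if_pos rfl, mul_one]
    by_cases hjj : j = j₀
    · simp [α, hjj]
    · simp [α, hjj]
  · have h1 : ∀ j', condMat a v lam i (Sum.inr l) ⟨j', p j'⟩ = 0 := by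
      intro j'
      change lam j' * dmv v (i.succAbove l) (Finsupp.single i (a j')) = _
      rw [dmv_single v _ (Fin.succAbove_ne i l), mul_zero]
    have h2 : ∀ l', condMat a v lam i (Sum.inr l) ⟨j₀, q l'⟩ = if l = l' then 1 else 0 := by
      intro l'
      change lam j₀ * dmv v (i.succAbove l)
        (Finsupp.single i (a j₀ - 1) + Finsupp.single (i.succAbove l') 1) = _
      rw [dmv_add_single v _ hi (Fin.succAbove_ne i l') _ (Fin.succAbove_ne i l), hj, one_mul]
      simp
    simp_rw [h1, h2]
    simp [β]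

end surj

/-- **Generic Jacobian rank.**  `G_j` forms of degrees `a_j ≥ 1` with coefficients algebraically independent over the
prime field, `v` a common zero with values in an extension field, `v_i = 1`: the gradients in the affine coordinates
are linearly independent. -/
theorem linearIndependent_grad {K : Type u} [Field K] [Algebra k K] (ha : ∀ j, 1 ≤ a j)
    (G : ∀ j : Fin d, LefPen.Form N k (a j))
    (hG : AlgebraicIndependent (⊥ : Subfield k)
      (fun jm : (Σ j : Fin d, {m : Fin (N + 1) →₀ ℕ // m.degree = a j}) =>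
        MvPolynomial.coeff jm.2.1 (G jm.1).1))
    (v : Fin (N + 1) → K) (i : Fin (N + 1)) (hi : v i = 1) (hv : ∀ j, aeval v (G j).1 = 0) :
    LinearIndependent K (fun j : Fin d => fun l : Fin N => aeval v (pderiv (i.succAbove l) (G j).1)) := by
  classical
  rw [Fintype.linearIndependent_iff]
  intro lam0 hlam0
  by_contra hne
  push Not at hne
  obtain ⟨j₀, hj₀⟩ := hne
  let lam : Fin d → K := fun j => (lam0 j₀)⁻¹ * lam0 j
  have hlam1 : lam j₀ = 1 := inv_mul_cancel₀ hj₀
  have hlam : ∀ l : Fin N, ∑ j, lam j * aeval v (pderiv (i.succAbove l) (G j).1) = 0 := by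
    intro l
    have h := congrFun hlam0 l
    rw [Finset.sum_apply] at h
    simp only [Pi.smul_apply, smul_eq_mul, Pi.zero_apply] at h
    simp only [lam, mul_assoc]
    rw [← Finset.mul_sum, h, mul_zero]
  have _ : IsScalarTower (⊥ : Subfield k) k K := inferInstance
  have hy : AlgebraicIndependent (⊥ : Subfield k)
      (fun jm : (Σ j : Fin d, {m : Fin (N + 1) →₀ ℕ // m.degree = a j}) =>
        algebraMap k K (MvPolynomial.coeff jm.2.1 (G jm.1).1)) := by
    have h := hG.map' (f := IsScalarTower.toAlgHom (⊥ : Subfield k) k K) (algebraMap k K).injective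
    exact h
  set y : (Σ j : Fin d, {m : Fin (N + 1) →₀ ℕ // m.degree = a j}) → K :=
    fun jm => algebraMap k K (MvPolynomial.coeff jm.2.1 (G jm.1).1) with hydef
  let t : Set K := Set.range v ∪ Set.range lam
  let E := clField (⊥ : Subfield k) t
  have hvE : ∀ l, v l ∈ E := fun l =>
    (mem_clField _).2 (subset_cl _ _ (Or.inl ⟨l, rfl⟩))
  have hlE : ∀ j, lam j ∈ E := fun j =>
    (mem_clField _).2 (subset_cl _ _ (Or.inr ⟨j, rfl⟩))
  have hmvE : ∀ m, mv v m ∈ E := fun m => prod_mem fun l _ => pow_mem (hvE l) _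
  have hdmvE : ∀ l m, dmv v l m ∈ E := fun l m =>
    mul_mem (natCast_mem _ _) (prod_mem fun l _ => pow_mem (hvE l) _)
  have hCt : ∀ r jm, condMat a v lam i r jm ∈ cl (⊥ : Subfield k) t := by
    intro r jm
    rw [← mem_clField]
    rcases r with j | l
    · change (if j = jm.1 then mv v jm.2.1 else 0) ∈ E
      split_ifs
      · exact hmvE _
      · exact zero_mem _
    · exact mul_mem (hlE _) (hdmvE _ _)
  have hC := condMat_surjective a v lam i hi j₀ hlam1 (ha j₀)
  have hCy : (condMat a v lam i).mulVec y = 0 := by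
    funext r
    rw [Matrix.mulVec, dotProduct, Pi.zero_apply, Fintype.sum_sigma]
    rcases r with j | l
    · rw [Finset.sum_eq_single j]
      · have h := hv j
        rw [aeval_eq_sum v _ (G j).2] at h
        rw [← h]
        refine Finset.sum_congr rfl fun m _ => ?_
        change (if j = j then mv v m.1 else 0) * _ = _
        rw [if_pos rfl, mul_comm, aeval_monomial_one]
      · intro j' _ hj'
        refine Finset.sum_eq_zero fun m _ => ?_
        change (if j = j' then mv v m.1 else 0) * _ = _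
        rw [if_neg (Ne.symm hj'), zero_mul]
      · intro h; exact absurd (Finset.mem_univ _) h
    · rw [← hlam l]
      refine Finset.sum_congr rfl fun j _ => ?_
      rw [aeval_pderiv_eq_sum v _ _ (G j).2, Finset.mul_sum]
      refine Finset.sum_congr rfl fun m _ => ?_
      change lam j * dmv v (i.succAbove l) m.1 * _ = _
      rw [aeval_pderiv_monomial_one, mul_assoc, mul_comm (dmv _ _ _)]
  have hmain := rk_le_of_linear_system (⊥ : Subfield k) t (condMat a v lam i) hCt hC y 0 hCy
  rw [rk_range_of_algebraicIndependent _ hy] at hmain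
  have h0 : rk (⊥ : Subfield k) (Set.range (0 : Fin d ⊕ Fin N → K)) = 0 := by
    have h1 : Set.range (0 : Fin d ⊕ Fin N → K) ⊆ cl (⊥ : Subfield k) (∅ : Set K) := by
      rintro _ ⟨r, rfl⟩
      rw [Pi.zero_apply, ← map_zero (algebraMap (⊥ : Subfield k) K)]
      exact algebraMap_mem_cl _ _ 0
    have h2 := rk_le_of_subset_cl _ h1
    rw [rk_empty] at h2
    exact le_antisymm h2 (zero_le)
  have ht : rk (⊥ : Subfield k) t ≤ ((N + (d - 1) : ℕ) : ℕ∞) := by
    refine (rk_union_le _ _ _).trans ?_
    have h1 := rk_range_le_of_one (⊥ : Subfield k) v i hi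
    have h2 := rk_range_le_of_one (⊥ : Subfield k) lam j₀ hlam1
    rw [Fintype.card_fin] at h1 h2
    rw [Nat.add_sub_cancel] at h1
    push_cast at *
    exact add_le_add h1 h2
  have hle : Fintype.card (Fin d ⊕ Fin N) ≤
      Fintype.card (Σ j : Fin d, {m : Fin (N + 1) →₀ ℕ // m.degree = a j}) := by
    have h1 : Function.Surjective (condMat a v lam i).mulVecLin := hC
    have h2 := LinearMap.finrank_le_finrank_of_surjective h1
    simpa using h2
  rw [h0, add_zero] at hmain
  have h3 := hmain.trans (add_le_add_left ht _)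
  rw [← Nat.cast_add, Nat.cast_le] at h3
  simp only [Fintype.card_sum, Fintype.card_fin] at h3 hle
  have hd : 0 < d := j₀.pos
  omega

end Groth.Agent.Lefpen.H121.GenericJac
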