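import Groth.Agent.Lefpen.H121.InstDer

/-!
# The instance of `H725.Core.Setup` given by a generic complete intersection
-/

set_option autoImplicit false

universe u

namespace Groth.Agent.Lefpen.H121.Inst

open MvPolynomial Groth.Agent.Lefpen.H725.Frame Groth.Agent.Lefpen.H725.Core
open Groth.Agent.Lefpen.H121.InstCech Groth.Agent.Lefpen.H121.InstDer

variable {K : Type u} [Field K] {Q : Type u} [Field Q] [Algebra K Q] {d : ℕ} {N : ℕ} (x : Fin N → Q)
  (hx : ∀ i, x i ≠ 0) (a : Fin d → ℕ) [Fintype (Cf N a)] [DecidableEq (Cf N a)] (Fr : Frame K (Cf N a))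
  (G : Fin d → MvPolynomial (Fin N) K)

/-- The coefficient of the pure power of `X_α` in the form `G_l`. -/
noncomputable def prC (l : Fin d) (α : Fin N) : Cf N a := ⟨l, ⟨Finsupp.single α (a l), Finsupp.degree_single _ _⟩⟩

/-- The geometric instance. -/
noncomputable def inst (ha : ∀ j, 1 ≤ a j) (hG : ∀ j, (G j).IsHomogeneous (a j))
    (hht : (d : ℕ∞) ≤ (Ideal.span (Set.range G)).height)
    (hker : RingHom.ker (aeval x : MvPolynomial (Fin N) K →ₐ[K] Q) = Ideal.span (Set.range G))
    (hfrac : ∀ q : Q, ∃ P P' : MvPolynomial (Fin N) K, aeval x P' ≠ 0 ∧ q * aeval x P' = aeval x P)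
    (hN : d + 3 = N) (hex : (N : ℤ) ≤ ∑ j, (a j : ℤ)) (hFr : ∀ e : Cf N a, Fr.z e = coeff e.2.1 (G e.1)) :
    Setup Q (Fin N) (Cf N a) (Fin d) where
  R I m := (R (K := K) x hx (↑I : Set (Fin N)) m).toAddSubgroup
  mono m h := fun _ hq => R_mono (K := K) x hx m (Finset.coe_subset.2 h) hq
  mul_mem h h' := mul_mem_R (K := K) x hx h h'
  one_mem I := one_mem_R (K := K) x hx _
  al l := (a l : ℤ)
  al_nonneg l := Int.natCast_nonneg _
  z := zz x a G
  dg := Sum.elim (fun _ => 0) (fun _ => 1)
  dg_inl _ := rfl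
  g := gg x a G
  g_mem l b I := by
    rcases b with e | i
    · change (if e.1 = l then aeval x (monomial e.2.1 (1 : K)) else 0) ∈ R (K := K) x hx _ _
      split_ifs with h
      · refine aeval_mem_R x hx _ (isHomogeneous_monomial _ e.2.2) ?_
        rw [h]; simp
      · exact Submodule.zero_mem _
    · change aeval x (pderiv i (G l)) ∈ R (K := K) x hx _ _
      refine aeval_mem_R x hx _ ((hG l).pderiv (i := i)) ?_
      change (a l : ℤ) - 1 = _
      rw [Nat.cast_sub (ha l), Nat.cast_one]
  cell e := e.1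
  g_cell l e h := by
    change (if e.1 = l then aeval x (monomial e.2.1 (1 : K)) else 0) = 0
    rw [if_neg (Ne.symm h)]
  pr := prC a
  cell_pr l α := rfl
  w l α := x α ^ (-(a l : ℤ))
  w_mem l α := by
    have h1 : x α ^ (-(a l : ℤ)) = ∏ i, x i ^ ((Pi.single α (-(a l : ℤ)) : Fin N → ℤ) i) := by
      rw [Finset.prod_eq_single α]
      · rw [Pi.single_eq_same]
      · intro i _ hi; rw [Pi.single_eq_of_ne hi, zpow_zero]
      · intro h; exact absurd (Finset.mem_univ _) h
    change _ ∈ R (K := K) x hx _ _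
    rw [h1]
    refine mon_mem_R x hx _ (by rw [Finset.sum_pi_single']; simp) fun i hi => ?_
    rw [Pi.single_eq_of_ne (by simpa using hi)]
  g_w l α := by
    change (if l = l then aeval x (monomial (Finsupp.single α (a l)) (1 : K)) else 0) * _ = 1
    rw [if_pos rfl, aeval_monomial, map_one, one_mul, Finsupp.prod_single_index (h := fun i k => x i ^ k)
      (pow_zero _), zpow_neg, zpow_natCast]
    exact mul_inv_cancel₀ (pow_ne_zero _ (hx α))
  tangent D l := tangent x a G hG (fun j => by
    have : G j ∈ RingHom.ker (aeval x : MvPolynomial (Fin N) K →ₐ[K] Q) := by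
      rw [hker]; exact Ideal.subset_span ⟨j, rfl⟩
    exact this) D l
  lift v hv := lift x a Fr G hG hker hfrac hFr v hv
  ext D h := ext x a Fr G hfrac hFr D h
  der_mem D I m h m' f hf := der_mem x a Fr G hx hFr D _ m
    (fun e => by
      have := h (Sum.inl e)
      rwa [show m + (Sum.elim (fun _ => 0) (fun _ => 1) : Cf N a ⊕ Fin N → ℤ) (Sum.inl e) = m from add_zero m] at this)
    (fun i => h (Sum.inr i)) m' f hf
  Z1 m s hs hcoc := by
    obtain ⟨t, ht, hts⟩ := z1 x hx G a ha hG hht hker (by omega) m s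
      (fun i j => by
        have := hs i j
        rw [show ((({i, j} : Finset (Fin N)) : Set (Fin N))) = {i, j} by simp] at this
        exact this) hcoc
    exact ⟨t, fun i => by
      change t i ∈ R (K := K) x hx _ m
      rw [Finset.coe_singleton]; exact ht i, hts⟩
  Soc l m hm s hs hcoc hsoc := by
    obtain ⟨r, hr, hrs⟩ := soc x hx G a ha hG hht hker hN hex (a l) m hm s
      (fun i j k => by
        have := hs i j k
        rw [show ((({i, j, k} : Finset (Fin N)) : Set (Fin N))) = {i, j, k} by simp] at this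
        exact this) hcoc
      (fun u hu => by
        obtain ⟨v, hv, hvs⟩ := hsoc ⟨l, ⟨u, hu⟩⟩ rfl
        refine ⟨v, fun i j => ?_, fun i j k => ?_⟩
        · have := hv i j
          rw [show ((({i, j} : Finset (Fin N)) : Set (Fin N))) = {i, j} by simp] at this
          exact this
        · rw [← hvs]
          change _ = (if l = l then aeval x (monomial u (1 : K)) else 0) * _
          rw [if_pos rfl])
    exact ⟨r, fun i j => by
      change r i j ∈ R (K := K) x hx _ _
      rw [show ((({i, j} : Finset (Fin N)) : Set (Fin N))) = {i, j} by simp]; exact hr i j, hrs⟩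

end Groth.Agent.Lefpen.H121.Inst
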