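import Groth.Agent.Lefpen.H19.Socle
import Groth.Agent.Lefpen.H725.Core

/-!
# The graded pieces of the localized cone ring inside its fraction field

`K` a field, `G_1, …, G_d` forms of degrees `a_j ≥ 1` in `N` variables generating an ideal of height `≥ d`; `Q` a field
over `K` with elements `x_i ≠ 0` such that the kernel of `F ↦ F(x)` is the ideal `(G_1, …, G_d)`.

* `ev` : Laurent polynomials evaluated at `x`;
* `R m I ⊆ Q` : the values of the Laurent polynomials of degree `m` with poles along `I`;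
* `ker_ev` : an element of degree `m` with poles along `I` has value zero iff it lies in `Jsub G a d m I`;
* `z1` : vanishing of `H^1`, if `d + 2 < N`;
* `soc` : the socle lemma for `H^2`, if `d + 3 = N`;
* `glob` : an element of `R m {i}` for all `i` lies in `R m ∅`, if `d + 1 < N`.
-/

set_option autoImplicit false

universe u

namespace Groth.Agent.Lefpen.H121.InstCech

open MvPolynomial Groth.Agent.CohqA.LaurentLoc Groth.Agent.CohqA.LaurentCech
open Groth.Agent.Lefpen.H19.Socle Groth.Agent.Lefpen.H728.LaurReg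

variable {K : Type u} [Field K] {N : ℕ} {Q : Type u} [Field Q] [Algebra K Q] (x : Fin N → Q) (hx : ∀ i, x i ≠ 0)

/-- Laurent monomials at `x`. -/
noncomputable def monHom : Multiplicative (Fin N → ℤ) →* Q where
  toFun m := ∏ i, x i ^ (m.toAdd i)
  map_one' := by simp
  map_mul' m m' := by
    rw [← Finset.prod_mul_distrib]
    exact Finset.prod_congr rfl fun i _ => by
      rw [toAdd_mul, Pi.add_apply, zpow_add₀ (hx i)]

/-- Evaluation of Laurent polynomials at `x`. -/
noncomputable def ev : LR (Fin N) K →ₐ[K] Q := AddMonoidAlgebra.lift K Q (Fin N → ℤ) (monHom x hx)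

theorem ev_single (m : Fin N → ℤ) (r : K) :
    ev x hx (AddMonoidAlgebra.single m r) = algebraMap K Q r * ∏ i, x i ^ (m i) := by
  rw [ev, AddMonoidAlgebra.lift_single, Algebra.smul_def]
  rfl

theorem ev_toLaurent (F : MvPolynomial (Fin N) K) : ev x hx (toLaurent F) = aeval x F := by
  have h : (ev (K := K) x hx : LR (Fin N) K →+* Q).comp toLaurent = (aeval x : MvPolynomial (Fin N) K →ₐ[K] Q) := by
    apply MvPolynomial.ringHom_ext
    · intro r
      have h1 : (C r : MvPolynomial (Fin N) K) = monomial 0 r := rfl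
      rw [RingHom.comp_apply, h1, toLaurent_monomial]
      change ev x hx _ = aeval x (monomial 0 r)
      rw [ev_single, ← h1, aeval_C]
      simp
    · intro i
      have h1 : (X i : MvPolynomial (Fin N) K) = monomial (Finsupp.single i 1) 1 := rfl
      rw [RingHom.comp_apply, h1, toLaurent_monomial]
      change ev x hx _ = aeval x (monomial (Finsupp.single i 1) 1)
      rw [ev_single, ← h1, aeval_X, map_one, one_mul]
      rw [Finset.prod_eq_single i]
      · simp
      · intro j _ hj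
        rw [castExp_apply, Finsupp.single_eq_of_ne hj]; simp
      · intro h; exact absurd (Finset.mem_univ _) h
  exact congrArg (fun f : MvPolynomial (Fin N) K →+* Q => f F) h

/-- The values of the Laurent polynomials of degree `m` with poles along `I`. -/
noncomputable def R (I : Set (Fin N)) (m : ℤ) : Submodule K Q := (LS K m I).map (ev x hx).toLinearMap

theorem mem_R {I : Set (Fin N)} {m : ℤ} {q : Q} : q ∈ R (K := K) x hx I m ↔ ∃ f ∈ LS K m I, ev x hx f = q := Iff.rfl

theorem R_mono {I J : Set (Fin N)} (m : ℤ) (h : I ⊆ J) : R (K := K) x hx I m ≤ R x hx J m :=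
  Submodule.map_mono (LS_mono h)

omit [Field Q] [Algebra K Q] in
theorem mul_mem_LS' {I : Set (Fin N)} {m m' : ℤ} {f g : LR (Fin N) K} (hf : f ∈ LS K m I) (hg : g ∈ LS K m' I) :
    f * g ∈ LS K (m + m') I := by
  classical
  rw [mem_LS, mem_Lsub] at *
  intro w hw
  rw [AddMonoidAlgebra.coeff_mul, Finsupp.sum] at hw
  obtain ⟨u, hu, hu'⟩ := Finset.exists_ne_zero_of_sum_ne_zero hw
  rw [Finsupp.sum] at hu'
  obtain ⟨v, hv, hv'⟩ := Finset.exists_ne_zero_of_sum_ne_zero hu'
  rw [ne_eq, ite_eq_right_iff, Classical.not_imp] at hv'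
  obtain ⟨rfl, -⟩ := hv'
  have h1 := hf u (Finsupp.mem_support_iff.1 hu)
  have h2 := hg v (Finsupp.mem_support_iff.1 hv)
  refine ⟨?_, fun i hi => ?_⟩
  · simp only [Pi.add_apply, Finset.sum_add_distrib, h1.1, h2.1]
  · exact add_nonneg (h1.2 i hi) (h2.2 i hi)

theorem mul_mem_R {I : Set (Fin N)} {m m' : ℤ} {p q : Q} (hp : p ∈ R (K := K) x hx I m) (hq : q ∈ R (K := K) x hx I m') :
    p * q ∈ R (K := K) x hx I (m + m') := by
  obtain ⟨f, hf, rfl⟩ := hp
  obtain ⟨g, hg, rfl⟩ := hq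
  exact ⟨f * g, mul_mem_LS' hf hg, map_mul (ev x hx) f g⟩

omit [Field Q] [Algebra K Q] in
theorem single_mem_LS {I : Set (Fin N)} {m : ℤ} (u : Fin N → ℤ) (r : K) (h1 : ∑ i, u i = m) (h2 : ∀ i, i ∉ I → 0 ≤ u i) :
    (AddMonoidAlgebra.single u r : LR (Fin N) K) ∈ LS K m I := by
  classical
  rw [mem_LS, mem_Lsub]
  intro w hw
  rw [AddMonoidAlgebra.coeff_single, Finsupp.single_apply, ne_eq, ite_eq_right_iff, Classical.not_imp] at hw
  obtain ⟨rfl, -⟩ := hw
  exact ⟨h1, h2⟩

theorem algebraMap_mem_R (I : Set (Fin N)) (r : K) : algebraMap K Q r ∈ R (K := K) x hx I 0 :=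
  ⟨AddMonoidAlgebra.single 0 r, single_mem_LS 0 r (by simp) (fun _ _ => le_rfl), by
    change ev x hx _ = _
    rw [ev_single]; simp⟩

theorem one_mem_R (I : Set (Fin N)) : (1 : Q) ∈ R (K := K) x hx I 0 := by
  simpa using algebraMap_mem_R x hx I (1 : K)

theorem mon_mem_R {I : Set (Fin N)} {m : ℤ} (u : Fin N → ℤ) (h1 : ∑ i, u i = m) (h2 : ∀ i, i ∉ I → 0 ≤ u i) :
    ∏ i, x i ^ (u i) ∈ R (K := K) x hx I m :=
  ⟨AddMonoidAlgebra.single u 1, single_mem_LS u 1 h1 h2, by
    change ev x hx _ = _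
    rw [ev_single]; simp⟩

/-- Forms of degree `m` give elements of `R I m`. -/
theorem aeval_mem_R (I : Set (Fin N)) {F : MvPolynomial (Fin N) K} {n : ℕ} (hF : F.IsHomogeneous n) {m : ℤ}
    (hm : m = n) : aeval x F ∈ R (K := K) x hx I m := by
  rw [← ev_toLaurent x hx]
  refine ⟨toLaurent F, ?_, rfl⟩
  have h := mul_mem_LS hF (single_mem_LS (I := I) (m := 0) (0 : Fin N → ℤ) (1 : K) (by simp) (fun _ _ => le_rfl))
    (m' := m) (by rw [hm, zero_add])
  rwa [show (AddMonoidAlgebra.single (0 : Fin N → ℤ) (1 : K) : LR (Fin N) K) = 1 from rfl, mul_one] at h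

variable {d : ℕ} (G : Fin d → MvPolynomial (Fin N) K) (a : Fin d → ℕ)

/-- The elements of value zero. -/
theorem ker_ev (hG : ∀ j, (G j).IsHomogeneous (a j))
    (hker : RingHom.ker (aeval x : MvPolynomial (Fin N) K →ₐ[K] Q) = Ideal.span (Set.range G))
    {I : Set (Fin N)} {m : ℤ} {f : LR (Fin N) K} (hf : f ∈ LS K m I) :
    ev x hx f = 0 ↔ f ∈ Jsub G a d m I := by
  constructor
  · intro h0
    obtain ⟨e, he⟩ := exists_clear I m f hf
    obtain ⟨P, hP, hPf⟩ := he e le_rfl
    have h1 : P ∈ Ideal.span (Set.range G) := by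
      rw [← hker, RingHom.mem_ker]
      change aeval x P = 0
      rw [← ev_toLaurent x hx, hPf, map_mul, h0, zero_mul]
    -- homogeneous coefficients
    have h2 : ∃ H : Fin d → MvPolynomial (Fin N) K, (∀ j, HomZ (H j) (m + ∑ i, indE I e i - a j)) ∧
        P = ∑ j, G j * H j := by
      rw [Ideal.span, Submodule.mem_span_range_iff_exists_fun] at h1
      obtain ⟨H', hH'⟩ := h1
      refine ⟨fun j => compZ (m + ∑ i, indE I e i - a j) (H' j), fun j => homZ_compZ _ _, ?_⟩
      rw [← compZ_eq_self hP, ← hH', map_sum]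
      exact Finset.sum_congr rfl fun j _ => by rw [smul_eq_mul, mul_comm, compZ_mul (hG j)]
    obtain ⟨H, hH, hPH⟩ := h2
    refine ⟨fun j => toLaurent (H j) * AddMonoidAlgebra.single (-indE I e) 1, fun j => ?_, ?_⟩
    · have h4 := mem_Lsub_of_homZ I e (hH j)
      have h5 : m + ∑ i, indE I e i - a j - ∑ i, indE I e i = m - a j := by ring
      rwa [h5] at h4
    · have h4 : f = toLaurent P * AddMonoidAlgebra.single (-indE I e) 1 := by
        rw [hPf, mul_assoc, single_mul_single_neg, mul_one]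
      rw [Finset.filter_true_of_mem fun j _ => j.2, h4, hPH, map_sum, Finset.sum_mul]
      exact Finset.sum_congr rfl fun j _ => by rw [map_mul, mul_assoc]
  · rintro ⟨h, -, rfl⟩
    rw [map_sum]
    refine Finset.sum_eq_zero fun j _ => ?_
    rw [map_mul, ev_toLaurent]
    have : G j ∈ RingHom.ker (aeval x : MvPolynomial (Fin N) K →ₐ[K] Q) := by
      rw [hker]; exact Ideal.subset_span ⟨j, rfl⟩
    rw [RingHom.mem_ker] at this
    change aeval x (G j) = 0 at this
    rw [this, zero_mul]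

/-- Vanishing of `H^1`. -/
theorem z1 (ha : ∀ j, 1 ≤ a j) (hG : ∀ j, (G j).IsHomogeneous (a j))
    (hht : (d : ℕ∞) ≤ (Ideal.span (Set.range G)).height)
    (hker : RingHom.ker (aeval x : MvPolynomial (Fin N) K →ₐ[K] Q) = Ideal.span (Set.range G)) (hN : d + 2 < N)
    (m : ℤ) (s : Fin N → Fin N → Q) (hs : ∀ i j, s i j ∈ R (K := K) x hx {i, j} m)
    (hcoc : ∀ i j k, s j k - s i k + s i j = 0) :
    ∃ t : Fin N → Q, (∀ i, t i ∈ R (K := K) x hx {i} m) ∧ ∀ i j, s i j = t j - t i := by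
  choose f hf hfs using hs
  have hr2 : ∀ σ : Fin 2 → Fin N, Set.range σ = {σ 0, σ 1} := by
    intro σ; ext y; simp [Fin.exists_fin_two, eq_comm]
  obtain ⟨t, ht, hts⟩ := exists_cobounding (G := G) (a := a) ha hG hht d le_rfl (p := 1) (m := m)
    (fun σ => f (σ 0) (σ 1)) (fun σ => by rw [hr2]; exact hf _ _) (fun σ => by
      rw [← ker_ev x hx G a hG hker (dd_mem_LS (fun σ => by rw [hr2]; exact hf _ _) σ)]
      rw [dd_apply, map_sum, Fin.sum_univ_three]
      simp only [map_zsmul]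
      have h1 := hcoc (σ 0) (σ 1) (σ 2)
      rw [← hfs, ← hfs, ← hfs] at h1
      have e0 : (σ ∘ (0 : Fin 3).succAbove) = ![σ 1, σ 2] := by funext i; fin_cases i <;> rfl
      have e1 : (σ ∘ (1 : Fin 3).succAbove) = ![σ 0, σ 2] := by funext i; fin_cases i <;> rfl
      have e2 : (σ ∘ (2 : Fin 3).succAbove) = ![σ 0, σ 1] := by funext i; fin_cases i <;> rfl
      rw [e0, e1, e2]
      simp only [Matrix.cons_val_zero, Matrix.cons_val_one, Fin.val_zero, Fin.val_one, Fin.val_two, pow_zero, pow_one,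
        one_smul, neg_smul]
      rw [show ((-1 : ℤ) ^ 2) = 1 by norm_num, one_smul]
      change ev x hx (f (σ 1) (σ 2)) + - ev x hx (f (σ 0) (σ 2)) + ev x hx (f (σ 0) (σ 1)) = 0
      change ev x hx (f (σ 1) (σ 2)) - ev x hx (f (σ 0) (σ 2)) + ev x hx (f (σ 0) (σ 1)) = 0 at h1
      rw [← h1]; ring) (by rw [Fintype.card_fin]; omega)
  have hr1 : ∀ i : Fin N, Set.range (fun _ : Fin 1 => i) = {i} := fun i => Set.range_const
  refine ⟨fun i => ev x hx (t fun _ => i), fun i => ⟨t fun _ => i, by rw [← hr1]; exact ht _, rfl⟩, fun i j => ?_⟩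
  have h2 := hts ![i, j]
  rw [← ker_ev x hx G a hG hker] at h2
  · rw [map_sub, dd_apply, map_sum, Fin.sum_univ_two] at h2
    simp only [map_zsmul] at h2
    have e0 : (![i, j] ∘ (0 : Fin 2).succAbove) = fun _ : Fin 1 => j := by funext i; fin_cases i; rfl
    have e1 : (![i, j] ∘ (1 : Fin 2).succAbove) = fun _ : Fin 1 => i := by funext i; fin_cases i; rfl
    rw [e0, e1] at h2
    simp only [Matrix.cons_val_zero, Matrix.cons_val_one, Fin.val_zero, Fin.val_one, pow_zero, pow_one, one_smul,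
      neg_smul] at h2
    rw [← hfs i j]
    change ev x hx (f i j) - (ev x hx (t fun _ => j) + - ev x hx (t fun _ => i)) = 0 at h2
    change ev x hx (f i j) = _
    rw [sub_eq_zero.1 h2]; ring
  · refine Submodule.sub_mem _ ?_ (dd_mem_LS ht _)
    rw [hr2]; exact hf _ _

/-- Elements regular everywhere are forms. -/
theorem glob (ha : ∀ j, 1 ≤ a j) (hG : ∀ j, (G j).IsHomogeneous (a j))
    (hht : (d : ℕ∞) ≤ (Ideal.span (Set.range G)).height)
    (hker : RingHom.ker (aeval x : MvPolynomial (Fin N) K →ₐ[K] Q) = Ideal.span (Set.range G)) (hN : d + 1 < N)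
    (m : ℤ) (q : Q) (hq : ∀ i, q ∈ R (K := K) x hx {i} m) : q ∈ R (K := K) x hx ∅ m := by
  choose f hf hfq using hq
  have hr1 : ∀ σ : Fin 1 → Fin N, Set.range σ = {σ 0} := by
    intro σ; ext y; simp [eq_comm]
  obtain ⟨t, ht, hts⟩ := exists_cobounding (G := G) (a := a) ha hG hht d le_rfl (p := 0) (m := m)
    (fun σ => f (σ 0)) (fun σ => by rw [hr1]; exact hf _) (fun σ => by
      rw [← ker_ev x hx G a hG hker (dd_mem_LS (fun σ => by rw [hr1]; exact hf _) σ)]
      rw [dd_apply, map_sum, Fin.sum_univ_two]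
      simp only [map_zsmul]
      have e0 : (σ ∘ (0 : Fin 2).succAbove) = ![σ 1] := by funext i; fin_cases i; rfl
      have e1 : (σ ∘ (1 : Fin 2).succAbove) = ![σ 0] := by funext i; fin_cases i; rfl
      rw [e0, e1]
      simp only [Matrix.cons_val_zero, Fin.val_zero, Fin.val_one, pow_zero, pow_one, one_smul, neg_smul]
      have h1 : ev x hx (f (σ 1)) = q := hfq _
      have h2 : ev x hx (f (σ 0)) = q := hfq _
      rw [h1, h2, add_neg_cancel]) (by rw [Fintype.card_fin]; omega)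
  have hN' : 0 < N := by omega
  have h2 := hts ![⟨0, hN'⟩]
  rw [← ker_ev x hx G a hG hker] at h2
  · rw [map_sub, dd_apply, map_sum, Fin.sum_univ_one] at h2
    simp only [Fin.val_zero, pow_zero, one_smul, Matrix.cons_val_zero] at h2
    have h3 : ev x hx (f ⟨0, hN'⟩) = q := hfq _
    rw [h3, sub_eq_zero] at h2
    rw [h2]
    refine ⟨_, ?_, rfl⟩
    have h4 := ht (![(⟨0, hN'⟩ : Fin N)] ∘ (0 : Fin 1).succAbove)
    rwa [Set.range_eq_empty] at h4
  · refine Submodule.sub_mem _ ?_ (dd_mem_LS ht _)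
    rw [hr1]; exact hf _

omit [Field Q] [Algebra K Q] in
/-- Laurent polynomials without poles are forms. -/
theorem exists_form {m : ℤ} {f : LR (Fin N) K} (hf : f ∈ LS K m ∅) :
    ∃ P : MvPolynomial (Fin N) K, HomZ P m ∧ toLaurent P = f := by
  obtain ⟨e, he⟩ := exists_clear ∅ m f hf
  obtain ⟨P, hP, hPf⟩ := he e le_rfl
  have h1 : indE (∅ : Set (Fin N)) e = 0 := by funext i; simp [indE]
  rw [h1] at hP hPf
  refine ⟨P, by simpa using hP, ?_⟩
  rw [hPf, show (AddMonoidAlgebra.single (0 : Fin N → ℤ) (1 : K) : LR (Fin N) K) = 1 from rfl, mul_one]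

theorem R_empty {m : ℤ} {q : Q} : q ∈ R (K := K) x hx ∅ m ↔ ∃ P : MvPolynomial (Fin N) K, HomZ P m ∧ aeval x P = q := by
  constructor
  · rintro ⟨f, hf, rfl⟩
    obtain ⟨P, hP, rfl⟩ := exists_form hf
    exact ⟨P, hP, (ev_toLaurent x hx P).symm⟩
  · rintro ⟨P, hP, rfl⟩
    by_cases hm : 0 ≤ m
    · obtain ⟨n, rfl⟩ := Int.eq_ofNat_of_zero_le hm
      exact aeval_mem_R x hx ∅ (homZ_iff.1 hP) rfl
    · rw [hP.eq_zero (not_le.1 hm), map_zero]; exact Submodule.zero_mem _

/-- No elements of negative degree. -/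
theorem R_empty_neg {m : ℤ} (hm : m < 0) {q : Q} (hq : q ∈ R (K := K) x hx ∅ m) : q = 0 := by
  obtain ⟨P, hP, rfl⟩ := (R_empty x hx).1 hq
  rw [hP.eq_zero hm, map_zero]

/-- Elements of degree zero are constants. -/
theorem R_empty_zero {q : Q} (hq : q ∈ R (K := K) x hx ∅ 0) : ∃ r : K, algebraMap K Q r = q := by
  obtain ⟨P, hP, rfl⟩ := (R_empty x hx).1 hq
  have h1 : P.IsHomogeneous 0 := homZ_iff.1 (by exact_mod_cast hP)
  rw [← MvPolynomial.totalDegree_zero_iff_isHomogeneous] at h1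
  rw [MvPolynomial.totalDegree_eq_zero_iff_eq_C.1 h1]
  exact ⟨_, (aeval_C _ _).symm⟩

/-- The socle lemma for `H^2`. -/
theorem soc (ha : ∀ j, 1 ≤ a j) (hG : ∀ j, (G j).IsHomogeneous (a j))
    (hht : (d : ℕ∞) ≤ (Ideal.span (Set.range G)).height)
    (hker : RingHom.ker (aeval x : MvPolynomial (Fin N) K →ₐ[K] Q) = Ideal.span (Set.range G)) (hN : d + 3 = N)
    (hex : (N : ℤ) ≤ ∑ j, (a j : ℤ))
    (t : ℕ) (m : ℤ) (hm : m ≤ 0) (s : Fin N → Fin N → Fin N → Q)
    (hs : ∀ i j k, s i j k ∈ R (K := K) x hx {i, j, k} (m - t))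
    (hcoc : ∀ i j k q, s j k q - s i k q + s i j q - s i j k = 0)
    (hsoc : ∀ u : Fin N →₀ ℕ, u.degree = t → ∃ v : Fin N → Fin N → Q, (∀ i j, v i j ∈ R (K := K) x hx {i, j} m) ∧
      ∀ i j k, aeval x (monomial u (1 : K)) * s i j k = v j k - v i k + v i j) :
    ∃ r : Fin N → Fin N → Q, (∀ i j, r i j ∈ R (K := K) x hx {i, j} (m - t)) ∧
      ∀ i j k, s i j k = r j k - r i k + r i j := by
  choose f hf hfs using hs
  have hr2 : ∀ σ : Fin 2 → Fin N, Set.range σ = {σ 0, σ 1} := by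
    intro σ; ext y; simp [Fin.exists_fin_two, eq_comm]
  have hr3 : ∀ σ : Fin 3 → Fin N, Set.range σ = {σ 0, σ 1, σ 2} := by
    intro σ; ext y
    simp only [Set.mem_range, Set.mem_insert_iff, Set.mem_singleton_iff]
    constructor
    · rintro ⟨i, rfl⟩
      fin_cases i <;> simp
    · rintro (rfl | rfl | rfl)
      exacts [⟨0, rfl⟩, ⟨1, rfl⟩, ⟨2, rfl⟩]
  have hz : ∀ σ : Fin 3 → Fin N, f (σ 0) (σ 1) (σ 2) ∈ LS K (m - t) (Set.range σ) := fun σ => by
    rw [hr3]; exact hf _ _ _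
  have ev3 : ∀ i j k, ev x hx (f i j k) = s i j k := fun i j k => hfs i j k
  -- the differential of a `1`-cochain
  have hdd2 : ∀ (y : (Fin 2 → Fin N) → LR (Fin N) K) (i j k : Fin N),
      ev x hx (dd y ![i, j, k]) = ev x hx (y ![j, k]) - ev x hx (y ![i, k]) + ev x hx (y ![i, j]) := by
    intro y i j k
    rw [dd_apply, map_sum, Fin.sum_univ_three]
    simp only [map_zsmul]
    have e0 : (![i, j, k] ∘ (0 : Fin 3).succAbove) = ![j, k] := by funext i; fin_cases i <;> rfl
    have e1 : (![i, j, k] ∘ (1 : Fin 3).succAbove) = ![i, k] := by funext i; fin_cases i <;> rfl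
    have e2 : (![i, j, k] ∘ (2 : Fin 3).succAbove) = ![i, j] := by funext i; fin_cases i <;> rfl
    rw [e0, e1, e2]
    simp only [Fin.val_zero, Fin.val_one, Fin.val_two, pow_zero, pow_one, one_smul, neg_smul]
    rw [show ((-1 : ℤ) ^ 2) = 1 by norm_num, one_smul]
    ring
  have hvec3 : ∀ σ : Fin 3 → Fin N, σ = ![σ 0, σ 1, σ 2] := fun σ => by funext i; fin_cases i <;> rfl
  obtain ⟨y, hy, hyz⟩ := socle_pow (G := G) (a := a) ha hG hht d le_rfl (p := 2) (by rw [Fintype.card_fin]; omega) t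
    (e := m - t) (fun σ => f (σ 0) (σ 1) (σ 2)) hz (fun σ => by
      rw [← ker_ev x hx G a hG hker (dd_mem_LS hz σ)]
      rw [dd_apply, map_sum, Fin.sum_univ_four]
      simp only [map_zsmul]
      have e0 : (σ ∘ (0 : Fin 4).succAbove) = ![σ 1, σ 2, σ 3] := by funext i; fin_cases i <;> rfl
      have e1 : (σ ∘ (1 : Fin 4).succAbove) = ![σ 0, σ 2, σ 3] := by funext i; fin_cases i <;> rfl
      have e2 : (σ ∘ (2 : Fin 4).succAbove) = ![σ 0, σ 1, σ 3] := by funext i; fin_cases i <;> rfl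
      have e3 : (σ ∘ (3 : Fin 4).succAbove) = ![σ 0, σ 1, σ 2] := by funext i; fin_cases i <;> rfl
      rw [e0, e1, e2, e3]
      have h1 := hcoc (σ 0) (σ 1) (σ 2) (σ 3)
      rw [← ev3, ← ev3, ← ev3, ← ev3] at h1
      have v3 : ((3 : Fin 4) : ℕ) = 3 := rfl
      simp only [Matrix.cons_val_zero, Matrix.cons_val_one, Matrix.cons_val, Fin.val_zero, Fin.val_one, Fin.val_two, v3,
        pow_zero, pow_one, one_smul, neg_smul]
      rw [show ((-1 : ℤ) ^ 2) = 1 by norm_num, show ((-1 : ℤ) ^ 3) = -1 by norm_num, one_smul, neg_smul, one_smul]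
      rw [← h1]; ring) (by
      rw [asum_self, Fintype.card_fin]; omega) (fun u hu => by
      obtain ⟨v, hv, hvs⟩ := hsoc u hu
      choose w hw hwv using hv
      have hw' : ∀ σ : Fin 2 → Fin N, w (σ 0) (σ 1) ∈ LS K (m - t + t) (Set.range σ) := fun σ => by
        rw [hr2, sub_add_cancel]; exact hw _ _
      refine ⟨fun σ => w (σ 0) (σ 1), hw', fun σ => ?_⟩
      rw [← ker_ev x hx G a hG hker]
      · have h1 := hvs (σ 0) (σ 1) (σ 2)
        conv_lhs => rw [hvec3 σ]
        rw [map_sub, hdd2, map_mul, ev_toLaurent]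
        simp only [Matrix.cons_val_zero, Matrix.cons_val_one, Matrix.cons_val]
        have hwv' : ∀ i j, ev x hx (w i j) = v i j := fun i j => hwv i j
        rw [hwv', hwv', hwv', ev3, h1]
        ring
      · exact Submodule.sub_mem _ (mul_mem_LS (isHomogeneous_monomial _ hu) (hz σ) (by ring)) (dd_mem_LS hw' σ))
  refine ⟨fun i j => ev x hx (y ![i, j]), fun i j => ⟨_, ?_, rfl⟩, fun i j k => ?_⟩
  · have := hy ![i, j]
    rw [hr2] at this
    exact this
  · have h2 := hyz ![i, j, k]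
    rw [← ker_ev x hx G a hG hker (Submodule.sub_mem _ (hz _) (dd_mem_LS hy _)), map_sub, hdd2] at h2
    have h3 : ev x hx (f i j k) - (ev x hx (y ![j, k]) - ev x hx (y ![i, k]) + ev x hx (y ![i, j])) = 0 := h2
    rw [ev3] at h3
    exact sub_eq_zero.1 h3

end Groth.Agent.Lefpen.H121.InstCech
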