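import Groth.Agent.Lefpen.H121.InstCech
import Groth.Agent.Lefpen.H725.Frame
import Mathlib.Algebra.TrivSqZeroExt.Basic
import Mathlib.Algebra.MvPolynomial.PDeriv
import Mathlib.RingTheory.MvPolynomial.EulerIdentity

/-!
# Derivations of the function field of the cone over a generic complete intersection

`K` a field with a frame `F` whose coordinates are the coefficients of the forms `G_1, …, G_d`, `Q = K(x_1, …, x_N)` with
relations ideal `(G_1, …, G_d)`.  Absolute derivations of `Q` correspond to the tangent vectors; `inst` is the resulting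
instance of `H725.Core.Setup`.
-/

set_option autoImplicit false

universe u

namespace Groth.Agent.Lefpen.H121.InstDer

open MvPolynomial Groth.Agent.CohqA.LaurentLoc Groth.Agent.CohqA.LaurentCech
open Groth.Agent.Lefpen.H19.Socle Groth.Agent.Lefpen.H728.LaurReg Groth.Agent.Lefpen.H725.Frame
open Groth.Agent.Lefpen.H121.InstCech

section General

/-- Extension of a derivation to the field of fractions (elementary form). -/
theorem extend {P Q : Type u} [CommRing P] [Field Q] (φ : P →+* Q) (hfrac : ∀ q, ∃ a b, φ b ≠ 0 ∧ q * φ b = φ a)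
    (D₁ : P →+ Q) (hD : ∀ a b, D₁ (a * b) = φ a * D₁ b + φ b * D₁ a) (hker : ∀ a, φ a = 0 → D₁ a = 0) :
    ∃ D : Derivation ℤ Q Q, ∀ a, D (φ a) = D₁ a := by
  choose A B hB hAB using hfrac
  have key : ∀ (q : Q) (a b : P), φ b ≠ 0 → q * φ b = φ a →
      (D₁ (A q) - q * D₁ (B q)) / φ (B q) = (D₁ a - q * D₁ b) / φ b := by
    intro q a b hb hab
    have h0 : φ (A q * b - a * B q) = 0 := by
      rw [map_sub, map_mul, map_mul, ← hab, ← hAB]; ring
    have h1 := hker _ h0
    rw [map_sub, hD, hD, ← hab, ← hAB] at h1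
    rw [div_eq_div_iff (hB q) hb]
    linear_combination h1
  have h1 : D₁ 1 = 0 := by
    have := hD 1 1
    rw [mul_one, φ.map_one, one_mul] at this
    simpa using this
  let Dfun : Q →+ Q :=
    { toFun := fun q => (D₁ (A q) - q * D₁ (B q)) / φ (B q)
      map_zero' := by
        change (D₁ (A 0) - 0 * D₁ (B 0)) / φ (B 0) = 0
        rw [key 0 0 1 (by simp) (by simp)]
        simp
      map_add' := fun q q' => by
        change (D₁ (A (q + q')) - (q + q') * D₁ (B (q + q'))) / φ (B (q + q')) = _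
        rw [key (q + q') (A q * B q' + A q' * B q) (B q * B q') (by rw [map_mul]; exact mul_ne_zero (hB q) (hB q'))
          (by rw [map_mul, map_add, map_mul, map_mul, ← hAB, ← hAB]; ring)]
        rw [div_add_div _ _ (hB q) (hB q'), φ.map_mul, D₁.map_add, hD, hD, hD, ← hAB, ← hAB]
        congr 1
        ring }
  have hspec : ∀ (q : Q) (a b : P), φ b ≠ 0 → q * φ b = φ a → Dfun q = (D₁ a - q * D₁ b) / φ b := key
  refine ⟨⟨Dfun.toIntLinearMap, ?_, ?_⟩, fun a => ?_⟩
  · change Dfun 1 = 0
    rw [hspec 1 1 1 (by simp) (by simp), h1]; simp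
  · intro q q'
    change Dfun (q * q') = q • Dfun q' + q' • Dfun q
    rw [hspec (q * q') (A q * A q') (B q * B q') (by rw [map_mul]; exact mul_ne_zero (hB q) (hB q'))
      (by rw [map_mul, map_mul, ← hAB, ← hAB]; ring)]
    rw [hspec q (A q) (B q) (hB q) (hAB q), hspec q' (A q') (B q') (hB q') (hAB q')]
    rw [smul_eq_mul, smul_eq_mul, φ.map_mul, hD, hD, ← hAB, ← hAB]
    have := hB q
    have := hB q'
    field_simp
    ring
  · change Dfun (φ a) = D₁ a
    rw [hspec (φ a) a 1 (by simp) (by simp), h1]; simp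

end General

variable {K : Type u} [Field K] {N : ℕ} {Q : Type u} [Field Q] [Algebra K Q] (x : Fin N → Q)

/-- The general formula for a derivation along `F ↦ F(x)`. -/
theorem leib (D₁ : MvPolynomial (Fin N) K →+ Q)
    (hD : ∀ F F', D₁ (F * F') = aeval x F * D₁ F' + aeval x F' * D₁ F) (F : MvPolynomial (Fin N) K) :
    D₁ F = (∑ u ∈ F.support, D₁ (C (coeff u F)) * aeval x (monomial u (1 : K))) +
      ∑ i, aeval x (pderiv i F) * D₁ (X i) := by
  classical
  set E : MvPolynomial (Fin N) K →+ Q :=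
    { toFun := fun F => D₁ F - ∑ i, aeval x (pderiv i F) * D₁ (X i)
      map_zero' := by simp
      map_add' := fun F F' => by
        simp only [map_add, add_mul, Finset.sum_add_distrib]; ring } with hE
  have hEa : ∀ F, E F = D₁ F - ∑ i, aeval x (pderiv i F) * D₁ (X i) := fun _ => rfl
  have hEL : ∀ F F', E (F * F') = aeval x F * E F' + aeval x F' * E F := by
    intro F F'
    rw [hEa, hEa, hEa, hD]
    have : ∑ i, aeval x (pderiv i (F * F')) * D₁ (X i) =
        aeval x F * ∑ i, aeval x (pderiv i F') * D₁ (X i) + aeval x F' * ∑ i, aeval x (pderiv i F) * D₁ (X i) := by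
      rw [Finset.mul_sum, Finset.mul_sum, ← Finset.sum_add_distrib]
      refine Finset.sum_congr rfl fun i _ => ?_
      rw [pderiv_mul, map_add, map_mul, map_mul]; ring
    rw [this]; ring
  have hEX : ∀ j, E (X j) = 0 := by
    intro j
    rw [hEa, Finset.sum_eq_single j]
    · rw [pderiv_X_self, map_one, one_mul, sub_self]
    · intro i _ hij; rw [pderiv_X_of_ne hij.symm, map_zero, zero_mul]
    · intro h; exact absurd (Finset.mem_univ _) h
  have hE1 : E 1 = 0 := by
    have := hEL 1 1
    rw [mul_one, map_one (aeval x : MvPolynomial (Fin N) K →ₐ[K] Q), one_mul] at this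
    simpa using this
  -- the subring on which `E` vanishes
  let Sr : Submonoid (MvPolynomial (Fin N) K) :=
    { carrier := {F | E F = 0}
      one_mem' := hE1
      mul_mem' := fun {F F'} h h' => by
        change E _ = 0
        rw [hEL, show E F = 0 from h, show E F' = 0 from h', mul_zero, mul_zero, add_zero] }
  have hEmon : ∀ u : Fin N →₀ ℕ, E (monomial u 1) = 0 := by
    intro u
    have h1 : (monomial u (1 : K)) = ∏ i, X i ^ (u i) := by
      rw [monomial_eq, C_1, one_mul, Finsupp.prod_fintype _ _ (fun i => pow_zero _)]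
    have h2 : (∏ i, (X i : MvPolynomial (Fin N) K) ^ (u i)) ∈ Sr :=
      Submonoid.prod_mem _ fun i _ => Submonoid.pow_mem _ (show E (X i) = 0 from hEX i) _
    rw [h1]; exact h2
  have hEC : ∀ r : K, E (C r) = D₁ (C r) := by
    intro r
    rw [hEa]
    simp
  have h1 : E F = ∑ u ∈ F.support, D₁ (C (coeff u F)) * aeval x (monomial u (1 : K)) := by
    conv_lhs => rw [F.as_sum]
    rw [map_sum]
    refine Finset.sum_congr rfl fun u _ => ?_
    have h2 : (monomial u (coeff u F)) = C (coeff u F) * monomial u 1 := by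
      rw [C_mul_monomial, mul_one]
    rw [h2, hEL, hEmon, hEC, mul_zero, zero_add, mul_comm]
  rw [← h1, hEa]; ring

/-- The index type of the coefficients. -/
abbrev Cf {d : ℕ} (N : ℕ) (a : Fin d → ℕ) : Type := Σ l : Fin d, {m : Fin N →₀ ℕ // m.degree = a l}

theorem finite_cf {d : ℕ} (N : ℕ) (a : Fin d → ℕ) : Finite (Cf N a) := by
  have : ∀ n : ℕ, Finite {m : Fin N →₀ ℕ // m.degree = n} := by
    intro n
    refine Set.Finite.to_subtype (s := {m : Fin N →₀ ℕ | m.degree = n})
      (((Finset.univ : Finset (Fin N)).finsuppAntidiag n).finite_toSet.subset ?_)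
    intro m hm
    rw [Finset.mem_coe, Finset.mem_finsuppAntidiag]
    refine ⟨?_, fun i _ => Finset.mem_univ i⟩
    rw [← show m.degree = n from hm, Finsupp.degree_eq_sum]
  infer_instance

variable {d : ℕ} (a : Fin d → ℕ) [Fintype (Cf N a)] [DecidableEq (Cf N a)] (Fr : Frame K (Cf N a))

/-- A derivation of `Q` on the constants. -/
theorem der_const (D : Derivation ℤ Q Q) (r : K) :
    D (algebraMap K Q r) = ∑ e, algebraMap K Q (Fr.D e r) * D (algebraMap K Q (Fr.z e)) := by
  let D₀ : Derivation ℤ K Q := D.compAlgebraMap K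
  have hD₀ : ∀ r, D₀ r = D (algebraMap K Q r) := fun _ => rfl
  let E : K →ₗ[ℤ] Q := D₀.toLinearMap - ∑ e, ((LinearMap.mul ℤ Q).flip (D (algebraMap K Q (Fr.z e)))).comp
    ((algebraMap K Q).toIntAlgHom.toLinearMap.comp (Fr.D e).toLinearMap)
  have hEa : ∀ r, E r = D (algebraMap K Q r) - ∑ e, algebraMap K Q (Fr.D e r) * D (algebraMap K Q (Fr.z e)) := by
    intro r
    change (D₀.toLinearMap - ∑ e, ((LinearMap.mul ℤ Q).flip (D (algebraMap K Q (Fr.z e)))).comp
      ((algebraMap K Q).toIntAlgHom.toLinearMap.comp (Fr.D e).toLinearMap)) r = _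
    rw [LinearMap.sub_apply, LinearMap.sum_apply]
    rfl
  have hEL : ∀ r s, E (r * s) = r • E s + s • E r := by
    intro r s
    simp only [hEa, map_mul, Derivation.leibniz, smul_eq_mul, Algebra.smul_def, map_add]
    simp only [add_mul, Finset.sum_add_distrib, mul_sub, Finset.mul_sum]
    have e1 : ∀ e, algebraMap K Q r * algebraMap K Q (Fr.D e s) * D (algebraMap K Q (Fr.z e)) =
        algebraMap K Q r * (algebraMap K Q (Fr.D e s) * D (algebraMap K Q (Fr.z e))) := fun e => mul_assoc _ _ _
    have e2 : ∀ e, algebraMap K Q s * algebraMap K Q (Fr.D e r) * D (algebraMap K Q (Fr.z e)) =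
        algebraMap K Q s * (algebraMap K Q (Fr.D e r) * D (algebraMap K Q (Fr.z e))) := fun e => mul_assoc _ _ _
    simp only [e1, e2]
    ring
  have hEz : ∀ e, E (Fr.z e) = 0 := by
    intro e
    rw [hEa]
    simp only [Fr.dual]
    rw [Finset.sum_eq_single e]
    · simp
    · intro b _ hb; rw [if_neg hb, map_zero, zero_mul]
    · intro h; exact absurd (Finset.mem_univ _) h
  have hE0 : ∀ r, E r = 0 := by
    intro r
    rw [← Module.forall_dual_apply_eq_zero_iff K]
    intro lam
    let E' : Derivation ℤ K K := Derivation.mk' (lam.toAddMonoidHom.toIntLinearMap.comp E) (fun r s => by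
      change lam (E (r * s)) = r • lam (E s) + s • lam (E r)
      rw [hEL, map_add, map_smul, map_smul])
    have hE' : E' = 0 := Fr.sep E' fun i => by
      change lam (E (Fr.z i)) = 0
      rw [hEz, map_zero]
    have : E' r = 0 := by rw [hE']; rfl
    exact this
  have := hE0 r
  rw [hEa] at this
  exact sub_eq_zero.1 this

variable (G : Fin d → MvPolynomial (Fin N) K)

/-- The coordinates. -/
noncomputable def zz : Cf N a ⊕ Fin N → Q := Sum.elim (fun e => algebraMap K Q (coeff e.2.1 (G e.1))) x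

/-- The partial derivatives of the equations. -/
noncomputable def gg (l : Fin d) : Cf N a ⊕ Fin N → Q :=
  Sum.elim (fun e => if e.1 = l then aeval x (monomial e.2.1 (1 : K)) else 0) (fun i => aeval x (pderiv i (G l)))

omit [DecidableEq (Cf N a)] in
/-- A derivation along `F ↦ F(x)` on the equations. -/
theorem leib_G (hG : ∀ j, (G j).IsHomogeneous (a j)) (D₁ : MvPolynomial (Fin N) K →+ Q)
    (hD : ∀ F F', D₁ (F * F') = aeval x F * D₁ F' + aeval x F' * D₁ F) (v : Cf N a ⊕ Fin N → Q)
    (hC : ∀ e : Cf N a, D₁ (C (coeff e.2.1 (G e.1))) = v (Sum.inl e)) (hX : ∀ i, D₁ (X i) = v (Sum.inr i)) (l : Fin d) :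
    D₁ (G l) = ∑ b, gg x a G l b * v b := by
  classical
  rw [leib x D₁ hD, Fintype.sum_sum_type]
  congr 1
  · -- reindex
    have h1 : ∑ e : Cf N a, gg x a G l (Sum.inl e) * v (Sum.inl e) =
        ∑ e ∈ Finset.univ.filter (fun e : Cf N a => e.1 = l), aeval x (monomial e.2.1 (1 : K)) * v (Sum.inl e) := by
      rw [Finset.sum_filter]
      refine Finset.sum_congr rfl fun e _ => ?_
      change (if e.1 = l then aeval x (monomial e.2.1 (1 : K)) else 0) * _ = _
      split_ifs <;> simp
    rw [h1]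
    have hdeg : ∀ u, coeff u (G l) ≠ 0 → u.degree = a l := fun u hu => by
      rw [Finsupp.degree_eq_weight_one]; exact hG l hu
    refine Finset.sum_bij_ne_zero (fun u hu _ => (⟨l, ⟨u, hdeg u (mem_support_iff.1 hu)⟩⟩ : Cf N a)) ?_ ?_ ?_ ?_
    · intro u hu _; simp
    · intro u hu _ u' hu' _ h
      simp only [Sigma.mk.injEq, heq_eq_eq, Subtype.mk.injEq, true_and] at h
      exact h
    · rintro ⟨l', u, hu⟩ he hne
      obtain rfl : l' = l := (Finset.mem_filter.1 he).2
      have hcoef : coeff u (G l') ≠ 0 := by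
        intro h0
        apply hne
        rw [← hC]
        simp [h0]
      refine ⟨u, mem_support_iff.2 hcoef, ?_, rfl⟩
      have h2 := hC ⟨l', ⟨u, hu⟩⟩
      rw [h2, mul_comm]
      exact hne
    · intro u hu _
      change _ = aeval x (monomial u (1 : K)) * v (Sum.inl ⟨l, ⟨u, _⟩⟩)
      rw [← hC, mul_comm]
  · exact Finset.sum_congr rfl fun i _ => by rw [hX]; rfl

/-- The restriction of a derivation of `Q` to polynomials. -/
noncomputable def resD (D : Derivation ℤ Q Q) : MvPolynomial (Fin N) K →+ Q :=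
  (D.toLinearMap.toAddMonoidHom).comp (aeval x : MvPolynomial (Fin N) K →ₐ[K] Q).toRingHom.toAddMonoidHom

theorem resD_apply (D : Derivation ℤ Q Q) (F : MvPolynomial (Fin N) K) : resD x D F = D (aeval x F) := rfl

theorem resD_mul (D : Derivation ℤ Q Q) (F F' : MvPolynomial (Fin N) K) :
    resD x D (F * F') = aeval x F * resD x D F' + aeval x F' * resD x D F := by
  rw [resD_apply, resD_apply, resD_apply, map_mul, Derivation.leibniz]
  rfl

omit [DecidableEq (Cf N a)] in
theorem tangent (hG : ∀ j, (G j).IsHomogeneous (a j)) (hG0 : ∀ j, aeval x (G j) = 0) (D : Derivation ℤ Q Q)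
    (l : Fin d) : ∑ b, gg x a G l b * D (zz x a G b) = 0 := by
  rw [← leib_G x a G hG (resD x D) (resD_mul x D) (fun b => D (zz x a G b)) (fun e => ?_) (fun i => ?_) l, resD_apply,
    hG0, map_zero]
  · rw [resD_apply, aeval_C]; rfl
  · rw [resD_apply, aeval_X]; rfl

/-- A derivation killing the coordinates vanishes. -/
theorem ext (hfrac : ∀ q : Q, ∃ P P' : MvPolynomial (Fin N) K, aeval x P' ≠ 0 ∧ q * aeval x P' = aeval x P)
    (hFr : ∀ e : Cf N a, Fr.z e = coeff e.2.1 (G e.1)) (D : Derivation ℤ Q Q) (h : ∀ b, D (zz x a G b) = 0) :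
    D = 0 := by
  have hC : ∀ r : K, D (algebraMap K Q r) = 0 := by
    intro r
    rw [der_const a Fr D r]
    refine Finset.sum_eq_zero fun e _ => ?_
    have := h (Sum.inl e)
    change D (algebraMap K Q (coeff e.2.1 (G e.1))) = 0 at this
    rw [hFr, this, mul_zero]
  have hP : ∀ P : MvPolynomial (Fin N) K, D (aeval x P) = 0 := by
    intro P
    rw [← resD_apply, leib x _ (resD_mul x D)]
    have h1 : ∀ r : K, resD x D (C r) = 0 := fun r => by rw [resD_apply, aeval_C]; exact hC r
    have h2 : ∀ i, resD (K := K) x D (X i) = 0 := fun i => by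
      rw [resD_apply, aeval_X]; exact h (Sum.inr i)
    simp only [h1, h2, zero_mul, mul_zero, Finset.sum_const_zero, add_zero]
  ext q
  obtain ⟨P, P', hP', hq⟩ := hfrac q
  have h1 : D (q * aeval x P') = 0 := by rw [hq, hP]
  rw [Derivation.leibniz, hP, smul_zero, zero_add, smul_eq_mul] at h1
  exact (mul_eq_zero.1 h1).resolve_left hP'

/-- Existence of derivations with prescribed values. -/
theorem lift (hG : ∀ j, (G j).IsHomogeneous (a j))
    (hker : RingHom.ker (aeval x : MvPolynomial (Fin N) K →ₐ[K] Q) = Ideal.span (Set.range G))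
    (hfrac : ∀ q : Q, ∃ P P' : MvPolynomial (Fin N) K, aeval x P' ≠ 0 ∧ q * aeval x P' = aeval x P)
    (hFr : ∀ e : Cf N a, Fr.z e = coeff e.2.1 (G e.1)) (v : Cf N a ⊕ Fin N → Q)
    (hv : ∀ l, ∑ b, gg x a G l b * v b = 0) : ∃ D : Derivation ℤ Q Q, ∀ b, D (zz x a G b) = v b := by
  classical
  -- the derivation on the constants
  let D₀ : K →+ Q :=
    { toFun := fun r => ∑ e, algebraMap K Q (Fr.D e r) * v (Sum.inl e)
      map_zero' := by simp
      map_add' := fun r s => by simp only [map_add, add_mul, Finset.sum_add_distrib] }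
  have hD₀ : ∀ r, D₀ r = ∑ e, algebraMap K Q (Fr.D e r) * v (Sum.inl e) := fun _ => rfl
  have hD₀L : ∀ r s, D₀ (r * s) = algebraMap K Q r * D₀ s + algebraMap K Q s * D₀ r := by
    intro r s
    simp only [hD₀, Derivation.leibniz, smul_eq_mul, map_add, map_mul, add_mul, Finset.sum_add_distrib,
      Finset.mul_sum, mul_assoc]
  have hD₀1 : D₀ 1 = 0 := by
    have := hD₀L 1 1
    rw [mul_one, (algebraMap K Q).map_one, one_mul] at this
    simpa using this
  have hfst0 : ∀ b c : Q, (TrivSqZeroExt.inl b + TrivSqZeroExt.inr c : TrivSqZeroExt Q Q).fst = b := fun b c => by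
    rw [TrivSqZeroExt.fst_add, TrivSqZeroExt.fst_inl, TrivSqZeroExt.fst_inr, add_zero]
  have hsnd0 : ∀ b c : Q, (TrivSqZeroExt.inl b + TrivSqZeroExt.inr c : TrivSqZeroExt Q Q).snd = c := fun b c => by
    rw [TrivSqZeroExt.snd_add, TrivSqZeroExt.snd_inl, TrivSqZeroExt.snd_inr, zero_add]
  let θ : K →+* TrivSqZeroExt Q Q :=
    { toFun := fun r => TrivSqZeroExt.inl (algebraMap K Q r) + TrivSqZeroExt.inr (D₀ r)
      map_one' := by
        rw [map_one, hD₀1, TrivSqZeroExt.inr_zero, add_zero, TrivSqZeroExt.inl_one]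
      map_zero' := by
        rw [map_zero, map_zero, TrivSqZeroExt.inr_zero, add_zero, TrivSqZeroExt.inl_zero]
      map_add' := fun r s => by
        rw [map_add, map_add]
        refine TrivSqZeroExt.ext ?_ ?_
        · rw [hfst0, TrivSqZeroExt.fst_add, hfst0, hfst0]
        · rw [hsnd0, TrivSqZeroExt.snd_add, hsnd0, hsnd0]
      map_mul' := fun r s => by
        rw [map_mul, hD₀L]
        refine TrivSqZeroExt.ext ?_ ?_
        · rw [hfst0, TrivSqZeroExt.fst_mul, hfst0, hfst0]
        · rw [hsnd0, TrivSqZeroExt.snd_mul, hfst0, hfst0, hsnd0, hsnd0, op_smul_eq_smul, smul_eq_mul, smul_eq_mul] }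
  let ψ : MvPolynomial (Fin N) K →+* TrivSqZeroExt Q Q :=
    eval₂Hom θ (fun i => TrivSqZeroExt.inl (x i) + TrivSqZeroExt.inr (v (Sum.inr i)))
  have hfst : ∀ F, (ψ F).fst = aeval x F := by
    intro F
    have h : (TrivSqZeroExt.fstHom Q Q Q).toRingHom.comp ψ = (aeval x : MvPolynomial (Fin N) K →ₐ[K] Q).toRingHom := by
      apply MvPolynomial.ringHom_ext
      · intro r
        change (ψ (C r)).fst = aeval x (C r)
        rw [aeval_C, eval₂Hom_C]
        exact hfst0 _ _
      · intro i
        change (ψ (X i)).fst = aeval x (X i)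
        rw [aeval_X, eval₂Hom_X', hfst0]
    exact congrArg (fun f : MvPolynomial (Fin N) K →+* Q => f F) h
  let D₁ : MvPolynomial (Fin N) K →+ Q :=
    { toFun := fun F => (ψ F).snd
      map_zero' := by rw [map_zero]; rfl
      map_add' := fun F F' => by rw [map_add]; rfl }
  have hD₁ : ∀ F, D₁ F = (ψ F).snd := fun _ => rfl
  have hD₁L : ∀ F F', D₁ (F * F') = aeval x F * D₁ F' + aeval x F' * D₁ F := by
    intro F F'
    rw [hD₁, map_mul, TrivSqZeroExt.snd_mul, hfst, hfst, hD₁, hD₁, op_smul_eq_smul, smul_eq_mul, smul_eq_mul]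
  have hD₁C : ∀ r, D₁ (C r) = D₀ r := by
    intro r
    rw [hD₁, eval₂Hom_C]
    exact hsnd0 _ _
  have hD₁X : ∀ i, D₁ (X i) = v (Sum.inr i) := by
    intro i
    rw [hD₁, eval₂Hom_X', hsnd0]
  have hD₀z : ∀ e, D₀ (Fr.z e) = v (Sum.inl e) := by
    intro e
    rw [hD₀]
    simp only [Fr.dual]
    rw [Finset.sum_eq_single e]
    · simp
    · intro b _ hb; rw [if_neg hb, map_zero, zero_mul]
    · intro h; exact absurd (Finset.mem_univ _) h
  have hD₁G : ∀ l, D₁ (G l) = 0 := by
    intro l
    rw [leib_G x a G hG D₁ hD₁L v (fun e => by rw [hD₁C, ← hFr, hD₀z]) hD₁X l, hv]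
  have hD₁ker : ∀ F, aeval x F = 0 → D₁ F = 0 := by
    intro F hF
    have hF' : F ∈ Ideal.span (Set.range G) := by rw [← hker, RingHom.mem_ker]; exact hF
    rw [Ideal.span, Submodule.mem_span_range_iff_exists_fun] at hF'
    obtain ⟨c, rfl⟩ := hF'
    rw [map_sum]
    refine Finset.sum_eq_zero fun l _ => ?_
    have h1 : aeval x (G l) = 0 := by
      have : G l ∈ RingHom.ker (aeval x : MvPolynomial (Fin N) K →ₐ[K] Q) := by
        rw [hker]; exact Ideal.subset_span ⟨l, rfl⟩
      exact this
    rw [smul_eq_mul, hD₁L, hD₁G, h1, mul_zero, zero_mul, add_zero]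
  obtain ⟨D, hD⟩ := extend (aeval x : MvPolynomial (Fin N) K →ₐ[K] Q).toRingHom
    (fun q => by obtain ⟨P, P', h1, h2⟩ := hfrac q; exact ⟨P, P', h1, h2⟩) D₁ hD₁L hD₁ker
  have hD' : ∀ F, D (aeval x F) = D₁ F := hD
  refine ⟨D, fun b => ?_⟩
  rcases b with e | i
  · change D (algebraMap K Q (coeff e.2.1 (G e.1))) = _
    rw [← aeval_C x, hD', hD₁C, ← hFr, hD₀z]
  · change D (x i) = _
    rw [← aeval_X (R := K) x i, hD', hD₁X]

variable (hx : ∀ i, x i ≠ 0)
include hx

/-- Derivations of monomials. -/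
theorem der_mon (D : Derivation ℤ Q Q) (u : Fin N → ℤ) (s : Finset (Fin N)) :
    D (∏ i ∈ s, x i ^ (u i)) = ∑ i ∈ s, (∏ j ∈ s, x j ^ (u j)) * ((u i : Q) * (x i)⁻¹ * D (x i)) := by
  classical
  induction s using Finset.induction_on with
  | empty => simp
  | insert j s hj ih =>
    rw [Finset.prod_insert hj, Derivation.leibniz, ih, Derivation.leibniz_zpow, Finset.sum_insert hj]
    simp only [smul_eq_mul]
    have h1 : x j ^ (u j - 1) = x j ^ (u j) * (x j)⁻¹ := zpow_sub_one₀ (hx j) _
    rw [h1, Finset.mul_sum, zsmul_eq_mul, add_comm]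
    congr 1
    · ring
    · exact Finset.sum_congr rfl fun i _ => by ring

theorem der_mem (hFr : ∀ e : Cf N a, Fr.z e = coeff e.2.1 (G e.1)) (D : Derivation ℤ Q Q) (I : Set (Fin N)) (m : ℤ)
    (hD1 : ∀ e, D (zz x a G (Sum.inl e)) ∈ R (K := K) x hx I m)
    (hD2 : ∀ i, D (zz x a G (Sum.inr i)) ∈ R (K := K) x hx I (m + 1)) (m' : ℤ) (f : Q)
    (hf : f ∈ R (K := K) x hx I m') : D f ∈ R (K := K) x hx I (m + m') := by
  classical
  obtain ⟨p, hp, rfl⟩ := hf
  have hp1 : p = ∑ u ∈ p.coeff.support, AddMonoidAlgebra.single u (p.coeff u) := by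
    apply AddMonoidAlgebra.coeff_injective
    conv_lhs => rw [← Finsupp.sum_single p.coeff]
    rw [Finsupp.sum]
    have : (AddMonoidAlgebra.coeffAddEquiv (R := K) (M := Fin N → ℤ)).toAddMonoidHom
        (∑ u ∈ p.coeff.support, AddMonoidAlgebra.single u (p.coeff u)) =
        ∑ u ∈ p.coeff.support, Finsupp.single u (p.coeff u) := by
      rw [map_sum]; rfl
    exact this.symm
  have hp2 : (ev x hx).toLinearMap p = ∑ u ∈ p.coeff.support, algebraMap K Q (p.coeff u) * ∏ i, x i ^ (u i) := by
    conv_lhs => rw [hp1]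
    rw [map_sum]
    exact Finset.sum_congr rfl fun u _ => ev_single x hx u _
  rw [hp2, map_sum]
  refine Submodule.sum_mem _ fun u hu => ?_
  have hu' := hp u (Finsupp.mem_support_iff.1 hu)
  rw [Derivation.leibniz, smul_eq_mul, smul_eq_mul]
  have hmon : ∏ i, x i ^ (u i) ∈ R (K := K) x hx I m' := mon_mem_R x hx u hu'.1 hu'.2
  refine Submodule.add_mem _ ?_ ?_
  · rw [← Algebra.smul_def]
    refine Submodule.smul_mem _ _ ?_
    rw [der_mon x hx D u Finset.univ]
    refine Submodule.sum_mem _ fun i _ => ?_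
    by_cases hi : u i = 0
    · rw [hi, Int.cast_zero, zero_mul, zero_mul, mul_zero]; exact Submodule.zero_mem _
    · have h1 : (∏ j, x j ^ (u j)) * ((u i : Q) * (x i)⁻¹ * D (x i)) =
          ((u i : K) : K) • ((D (x i)) * ∏ j, x j ^ ((u - Pi.single i 1 : Fin N → ℤ) j)) := by
        have h2 : ∏ j, x j ^ ((u - Pi.single i 1 : Fin N → ℤ) j) = (∏ j, x j ^ (u j)) * (x i)⁻¹ := by
          have h3 : ∀ j, x j ^ ((u - Pi.single i 1 : Fin N → ℤ) j) = x j ^ (u j) * (if j = i then (x i)⁻¹ else 1) := by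
            intro j
            rw [Pi.sub_apply]
            by_cases hj : j = i
            · subst hj; rw [Pi.single_eq_same, if_pos rfl, zpow_sub_one₀ (hx _)]
            · rw [Pi.single_eq_of_ne hj, sub_zero, if_neg hj, mul_one]
          simp only [h3]
          rw [Finset.prod_mul_distrib, Finset.prod_ite_eq' Finset.univ i, if_pos (Finset.mem_univ _)]
        rw [h2, Algebra.smul_def, map_intCast]
        ring
      rw [h1]
      refine Submodule.smul_mem _ _ ?_
      have h4 : ∏ j, x j ^ ((u - Pi.single i 1 : Fin N → ℤ) j) ∈ R (K := K) x hx I (m' - 1) := by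
        refine mon_mem_R x hx _ ?_ ?_
        · simp only [Pi.sub_apply, Finset.sum_sub_distrib, hu'.1]
          rw [Finset.sum_pi_single']; simp
        · intro j hj
          by_cases hji : j = i
          · subst hji
            rw [Pi.sub_apply, Pi.single_eq_same]
            have := hu'.2 j hj
            omega
          · rw [Pi.sub_apply, Pi.single_eq_of_ne hji, sub_zero]
            exact hu'.2 j hj
      have h5 := mul_mem_R x hx (hD2 i) h4
      rwa [show m + 1 + (m' - 1) = m + m' by ring] at h5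
  · have h1 : D (algebraMap K Q (p.coeff u)) ∈ R (K := K) x hx I m := by
      rw [der_const a Fr D]
      refine Submodule.sum_mem _ fun e _ => ?_
      rw [← Algebra.smul_def]
      refine Submodule.smul_mem _ _ ?_
      rw [hFr]
      exact hD1 e
    have h2 := mul_mem_R x hx h1 hmon
    rwa [mul_comm] at h2

end Groth.Agent.Lefpen.H121.InstDer
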