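import Groth.Agent.Lefpen.H715.TupDef

/-!
# Homogeneous fractions regular on `D_+(h)`, covers by `D_+(h_l)`
-/

set_option autoImplicit false
universe u
open CategoryTheory CategoryTheory.Limits AlgebraicGeometry TopologicalSpace Opposite MvPolynomial
open LefPen

namespace Groth.Agent.Lefpen.H121.NL8Key

open Groth.Agent.Lefpen.H718.Reg Groth.Agent.Lefpen.H718.ConeCM Groth.Agent.Lefpen.H718.Grade
open Groth.Agent.Lefpen.H718.Chart Groth.Agent.Lefpen.H725.CocDef Groth.Agent.Lefpen.H121.ChartLift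
open Groth.Agent.Lefpen.H61.T4Phi Groth.Agent.Lefpen.H61.T4Coc Groth.Agent.Lefpen.H715.TupDef Groth.Agent.Sga5

variable {K : Type u} [Field K] {N d : ℕ} {a : Fin d → ℕ} (G : ∀ j : Fin d, Form N K (a j))
variable [IsIntegral (Y G)] (hdom : IsDomain (A (eqn G))) (hx : ∀ i, mk (eqn G) (X i) ≠ 0)

section key

variable (Q : Type u) [Field Q] [Algebra (A (eqn G)) Q] [IsFractionRing (A (eqn G)) Q]
  (Φ : (Y G).functionField →+* Q)
  (hΦ : ∀ α (P : MvPolynomial (Fin N) K), Φ (ff (ychart G α) (generic_mem G hdom hx α) (toY G α P)) = evx G Q α P)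

include hΦ in
/-- One chart. -/
theorem exists_pow_chart (h : MvPolynomial (Fin (N + 1)) K) (n : ℕ) (hh : h.IsHomogeneous n)
    (c : (Y G).functionField) (E : ℤ) (β : Fin (N + 1))
    (hreg : ∀ x : Y G, x ∈ ychart G β → UnitAt x (val G hdom hx β h) →
      RegAt x (c * val G hdom hx 0 (X β) ^ (-E))) :
    ∃ M R₀ : ℕ, ∀ M' R, M ≤ M' → R₀ ≤ R → ∃ f : A (eqn G),
      xx G Q β ^ R * vv G Q h ^ M' * (Φ c * xx G Q 0 ^ E) = algebraMap (A (eqn G)) Q f := by
  obtain ⟨M, b, hb⟩ := exists_pow_mul G hdom hx β (fn G β h) (c * val G hdom hx 0 (X β) ^ (-E)) hreg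
  obtain ⟨p, rfl⟩ := toY_surjective G β b
  obtain ⟨D₀, hD⟩ := exists_homogenization β p
  obtain ⟨F, hF, rfl⟩ := hD D₀ le_rfl
  have hb' := congrArg Φ hb
  have h0 := xx_ne_zero G hx Q 0
  have hβ := xx_ne_zero G hx Q β
  have hv : Φ (val G hdom hx 0 (X β)) = xx G Q β / xx G Q 0 := phi_fn_X G hdom hx Q Φ hΦ 0 β
  rw [map_mul, map_mul, map_pow, map_zpow₀, hv, hΦ, evx_dehom G hx Q β hF, phi_fn G hdom hx Q Φ hΦ β hh] at hb'
  refine ⟨M, D₀ + E.natAbs, fun M' R hM hR => ?_⟩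
  obtain ⟨m, rfl⟩ := Nat.exists_eq_add_of_le hM
  -- the exponent of `x_β`
  obtain ⟨e, he⟩ : ∃ e : ℕ, (e : ℤ) = R + n * M - D₀ + E :=
    ⟨((R : ℤ) + n * M - D₀ + E).toNat, Int.toNat_of_nonneg (by
      have : ((D₀ + E.natAbs : ℕ) : ℤ) ≤ R := by exact_mod_cast hR
      push_cast at this
      have h3 : (0 : ℤ) ≤ n * M := by positivity
      have h4 : -E ≤ |E| := neg_le_abs E
      omega)⟩
  refine ⟨mk (eqn G) (X β ^ e * h ^ m * F), ?_⟩
  have e1 : algebraMap (A (eqn G)) Q (mk (eqn G) (X β ^ e * h ^ m * F)) = xx G Q β ^ e * vv G Q h ^ m * vv G Q F := by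
    simp only [map_mul, map_pow]; rfl
  rw [e1]
  have e2 : vv G Q F = xx G Q β ^ D₀ * ((vv G Q h / xx G Q β ^ n) ^ M * (Φ c * (xx G Q β / xx G Q 0) ^ (-E))) := by
    rw [← hb', mul_div_cancel₀ _ (pow_ne_zero _ hβ)]
  rw [e2, ← zpow_natCast (xx G Q β) e, he, div_pow, ← pow_mul, pow_add, div_zpow]
  have e3 : (xx G Q β) ^ ((R : ℤ) + n * M - D₀ + E) = xx G Q β ^ R * xx G Q β ^ (n * M) * (xx G Q β ^ D₀)⁻¹ *
      (xx G Q β) ^ E := by
    rw [zpow_add₀ hβ, zpow_sub₀ hβ, zpow_add₀ hβ, zpow_natCast, zpow_natCast, div_eq_mul_inv]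
    norm_cast
  rw [e3]
  have e4 : (xx G Q β) ^ (-E) = ((xx G Q β) ^ E)⁻¹ := zpow_neg _ _
  have e5 : (xx G Q 0) ^ (-E) = ((xx G Q 0) ^ E)⁻¹ := zpow_neg _ _
  rw [e4, e5]
  have h6 : (xx G Q β) ^ E ≠ 0 := zpow_ne_zero _ hβ
  have h7 : (xx G Q 0) ^ E ≠ 0 := zpow_ne_zero _ h0
  have h8 : xx G Q β ^ D₀ ≠ 0 := pow_ne_zero _ hβ
  have h9 : xx G Q β ^ (n * M) ≠ 0 := pow_ne_zero _ hβ
  field_simp

include hΦ in
/-- (KEY) homogeneous fractions `c * T_0^E` of degree `E` regular on `D_+(h)` -/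
theorem exists_pow (h : MvPolynomial (Fin (N + 1)) K) (n : ℕ) (hh : h.IsHomogeneous n)
    (c : (Y G).functionField) (E : ℤ)
    (hreg : ∀ α (x : Y G), x ∈ ychart G α → UnitAt x (val G hdom hx α h) →
      RegAt x (c * val G hdom hx 0 (X α) ^ (-E))) :
    ∃ M R : ℕ, ∀ β, ∃ f : A (eqn G), xx G Q β ^ R * vv G Q h ^ M * (Φ c * xx G Q 0 ^ E) =
      algebraMap (A (eqn G)) Q f := by
  choose M R h1 using fun β => exists_pow_chart G hdom hx Q Φ hΦ h n hh c E β (hreg β)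
  refine ⟨∑ β, M β, ∑ β, R β, fun β => h1 β _ _ ?_ ?_⟩
  · exact Finset.single_le_sum (f := M) (fun _ _ => Nat.zero_le _) (Finset.mem_univ β)
  · exact Finset.single_le_sum (f := R) (fun _ _ => Nat.zero_le _) (Finset.mem_univ β)

end key

omit [IsIntegral (Y G)] in
theorem aux {F : Type*} [Field F] (a b c f h : F) (ha : a ≠ 0) (hb : b ≠ 0) :
    a * b * c * (f / a * (h / b)) = f * c * h := by
  field_simp

/-- (COV) if the `D_+(h l)` cover `Y`, the ideal `(h_l^M)` contains a power of `T_β` -/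
theorem exists_cover {r : ℕ} (n : Fin r → ℕ) (h : Fin r → MvPolynomial (Fin (N + 1)) K)
    (hh : ∀ l, (h l).IsHomogeneous (n l))
    (hcov : ∀ α (x : Y G), x ∈ ychart G α → ∃ l, UnitAt x (val G hdom hx α (h l))) (M : ℕ)
    (β : Fin (N + 1)) :
    ∃ R : ℕ, mk (eqn G) (X β) ^ R ∈ Ideal.span (Set.range fun l => mk (eqn G) (h l) ^ M) := by
  have hspan : Ideal.span (Set.range fun l => fn G β (h l)) = ⊤ := by
    rw [← (isAffineOpen_ychart G β).iSup_basicOpen_eq_self_iff]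
    refine le_antisymm (iSup_le fun f => (Y G).basicOpen_le _) fun x hxβ => ?_
    obtain ⟨l, hl⟩ := hcov β x hxβ
    exact Opens.mem_iSup.2 ⟨⟨fn G β (h l), ⟨l, rfl⟩⟩,
      (unitAt_ff_iff (generic_mem G hdom hx β) (fn G β (h l)) hxβ).1 hl⟩
  have hspan' : Ideal.span (Set.range fun l => fn G β (h l) ^ M) = ⊤ := by
    have := Ideal.span_pow_eq_top _ hspan M
    rwa [← Set.range_comp] at this
  have h1 : (1 : Γ(Y G, ychart G β)) ∈ Ideal.span (Set.range fun l => fn G β (h l) ^ M) := by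
    rw [hspan']; trivial
  obtain ⟨s, hs⟩ := Ideal.mem_span_range_iff_exists_fun.1 h1
  choose p hp using fun l => toY_surjective G β (s l)
  choose M₀ hM₀ using fun l => exists_homogenization β (p l)
  choose F hF hF' using fun l => hM₀ l (M₀ l) le_rfl
  let Q := FractionRing (A (eqn G))
  have hβ := xx_ne_zero G hx Q β
  have h2 := congrArg (psi G hx Q β) hs
  rw [map_sum, map_one] at h2
  have h3 : ∀ l, psi G hx Q β (s l * fn G β (h l) ^ M) =
      vv G Q (F l) / xx G Q β ^ M₀ l * (vv G Q (h l) / xx G Q β ^ n l) ^ M := by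
    intro l
    rw [map_mul, map_pow, ← hp l, psi_toY, ← hF' l, evx_dehom G hx Q β (hF l)]
    congr 2
    change psi G hx Q β (toY G β (ProjChart.dehom N K β (h l))) = _
    rw [psi_toY, evx_dehom G hx Q β (hh l)]
  simp only [h3] at h2
  refine ⟨∑ l, (M₀ l + n l * M), ?_⟩
  have h4 : mk (eqn G) (X β) ^ (∑ l, (M₀ l + n l * M)) =
      ∑ l, (mk (eqn G) (F l) * mk (eqn G) (X β) ^ (∑ l, (M₀ l + n l * M) - (M₀ l + n l * M))) *
        mk (eqn G) (h l) ^ M := by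
    apply IsFractionRing.injective (A (eqn G)) Q
    have e1 : algebraMap (A (eqn G)) Q (mk (eqn G) (X β)) = xx G Q β := rfl
    have e2 : ∀ P, algebraMap (A (eqn G)) Q (mk (eqn G) P) = vv G Q P := fun _ => rfl
    simp only [map_pow, map_sum, map_mul, e1, e2]
    rw [← mul_one (xx G Q β ^ _), ← h2, Finset.mul_sum]
    refine Finset.sum_congr rfl fun l _ => ?_
    have h5 : M₀ l + n l * M ≤ ∑ l, (M₀ l + n l * M) :=
      Finset.single_le_sum (f := fun l => M₀ l + n l * M) (fun _ _ => Nat.zero_le _) (Finset.mem_univ l)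
    obtain ⟨t, ht⟩ := Nat.exists_eq_add_of_le h5
    rw [ht, Nat.add_sub_cancel_left, pow_add, pow_add, div_pow, ← pow_mul]
    have h6 : xx G Q β ^ M₀ l ≠ 0 := pow_ne_zero _ hβ
    have h7 : xx G Q β ^ (n l * M) ≠ 0 := pow_ne_zero _ hβ
    exact aux _ _ _ _ _ h6 h7
  rw [h4]
  refine Ideal.sum_mem _ fun l _ => Ideal.mul_mem_left _ _ (Ideal.subset_span ⟨l, rfl⟩)

end Groth.Agent.Lefpen.H121.NL8Key
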