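import Groth.Agent.Lefpen.H121.NL8Key
import Groth.Agent.Lefpen.H715.ConeMain

/-!
# Tuples of forms: passage to the cone

* `inv0_of_tup`: the tuple is invertible off the origin of the cone;
* `le0_of_tup`: comparison of tuples of two Cartier cocycles `b ~ b'^q` up to a twist and a principal divisor.
-/

set_option autoImplicit false
universe u
open CategoryTheory CategoryTheory.Limits AlgebraicGeometry TopologicalSpace Opposite MvPolynomial
open LefPen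

namespace Groth.Agent.Lefpen.H121.NL8Tup

open Groth.Agent.Lefpen.H718.Reg Groth.Agent.Lefpen.H718.ConeCM Groth.Agent.Lefpen.H718.Grade
open Groth.Agent.Lefpen.H718.Chart Groth.Agent.Lefpen.H725.CocDef Groth.Agent.Lefpen.H121.ChartLift
open Groth.Agent.Lefpen.H61.T4Phi Groth.Agent.Lefpen.H715.TupDef Groth.Agent.Lefpen.H715.ConeMain
open Groth.Agent.Lefpen.H121.NL8Key Groth.Agent.Fdesc.LocGen

section reg

variable {X : Scheme.{u}} [IsIntegral X] {x : X} {u v : X.functionField}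

theorem regAt_mul (h : RegAt x u) (h' : RegAt x v) : RegAt x (u * v) := by
  obtain ⟨U, hx, hη, g, rfl⟩ := h
  obtain ⟨V, hx', hη', g', rfl⟩ := h'
  refine ⟨U ⊓ V, ⟨hx, hx'⟩, ⟨hη, hη'⟩, ores inf_le_left g * ores inf_le_right g', ?_⟩
  rw [map_mul, ff_ores, ff_ores]

theorem unitAt_regAt (h : UnitAt x u) : RegAt x u := by
  obtain ⟨U, hx, hη, g, -, hg⟩ := h
  exact ⟨U, hx, hη, g, hg⟩

theorem unitAt_inv (h : UnitAt x u) : UnitAt x u⁻¹ := by
  obtain ⟨U, hx, hη, g, hg, rfl⟩ := h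
  obtain ⟨g, rfl⟩ := hg
  refine ⟨U, hx, hη, (g⁻¹ : Γ(X, U)ˣ), Units.isUnit _, ?_⟩
  refine eq_inv_of_mul_eq_one_left ?_
  rw [← map_mul, Units.inv_mul, map_one]

theorem unitAt_pow (h : UnitAt x u) (n : ℕ) : UnitAt x (u ^ n) := by
  obtain ⟨U, hx, hη, g, hg, rfl⟩ := h
  exact ⟨U, hx, hη, g ^ n, hg.pow n, by rw [map_pow]⟩

theorem regAt_pow (h : RegAt x u) (n : ℕ) : RegAt x (u ^ n) := by
  obtain ⟨U, hx, hη, g, rfl⟩ := h
  exact ⟨U, hx, hη, g ^ n, by rw [map_pow]⟩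

theorem unitAt_mul (h : UnitAt x u) (h' : UnitAt x v) : UnitAt x (u * v) := by
  obtain ⟨U, hx, hη, g, hg, rfl⟩ := h
  obtain ⟨V, hx', hη', g', hg', rfl⟩ := h'
  refine ⟨U ⊓ V, ⟨hx, hx'⟩, ⟨hη, hη'⟩, ores inf_le_left g * ores inf_le_right g',
    (hg.map _).mul (hg'.map _), ?_⟩
  rw [map_mul, ff_ores, ff_ores]

end reg

variable {K : Type u} [Field K] {N d : ℕ} {a : Fin d → ℕ} (G : ∀ j : Fin d, Form N K (a j))
variable [IsIntegral (Y G)] (hdom : IsDomain (A (eqn G))) (hx : ∀ i, mk (eqn G) (X i) ≠ 0)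

theorem val_eq_zero (α : Fin (N + 1)) {F : MvPolynomial (Fin (N + 1)) K} (h : mk (eqn G) F = 0) :
    val G hdom hx α F = 0 := by
  rw [val, fn_eq_zero G α (Ideal.Quotient.eq_zero_iff_mem.1 h), map_zero]

theorem phi_val (Q : Type u) [Field Q] [Algebra (A (eqn G)) Q] [IsFractionRing (A (eqn G)) Q]
    (Φ : (Y G).functionField →+* Q)
    (hΦ : ∀ α (P : MvPolynomial (Fin N) K),
      Φ (ff (ychart G α) (generic_mem G hdom hx α) (toY G α P)) = evx G Q α P)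
    (α : Fin (N + 1)) {D : ℕ} {P : MvPolynomial (Fin (N + 1)) K} (hP : P.IsHomogeneous D) :
    Φ (val G hdom hx α P) = vv G Q P / xx G Q α ^ D :=
  phi_fn G hdom hx Q Φ hΦ α hP

theorem val_ne_zero (α : Fin (N + 1)) {D : ℕ} {F : MvPolynomial (Fin (N + 1)) K} (hF : F.IsHomogeneous D)
    (h : mk (eqn G) F ≠ 0) : val G hdom hx α F ≠ 0 := by
  obtain ⟨Φ, hΦ, -⟩ := exists_phi G hdom hx (FractionRing (A (eqn G)))
  intro h0
  have h1 := phi_val G hdom hx _ Φ hΦ α hF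
  rw [h0, map_zero, eq_comm, div_eq_zero_iff, vv_eq_zero_iff] at h1
  rcases h1 with h1 | h1
  · exact h h1
  · exact pow_ne_zero _ (xx_ne_zero G hx _ α) h1

theorem val_rel (α β : Fin (N + 1)) {D : ℕ} {P : MvPolynomial (Fin (N + 1)) K} (hP : P.IsHomogeneous D) :
    val G hdom hx α P = val G hdom hx α (X β) ^ D * val G hdom hx β P := by
  have h1 := congrArg (ff (ychart G α ⊓ ychart G β) ⟨generic_mem G hdom hx α, generic_mem G hdom hx β⟩)
    (ores_fn G α β hP)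
  rw [map_mul, map_pow, ff_ores, ff_ores, ff_ores] at h1
  exact h1

theorem val_X_ne_zero (α β : Fin (N + 1)) : val G hdom hx α (X β) ≠ 0 :=
  val_ne_zero G hdom hx α (isHomogeneous_X K β) (hx β)

theorem unitAt_generic (α : Fin (N + 1)) {D : ℕ} {F : MvPolynomial (Fin (N + 1)) K} (hF : F.IsHomogeneous D)
    (h : mk (eqn G) F ≠ 0) : UnitAt (genericPoint (Y G)) (val G hdom hx α F) := by
  have h1 := val_ne_zero G hdom hx α hF h
  refine (unitAt_ff_iff (generic_mem G hdom hx α) (fn G α F) (generic_mem G hdom hx α)).2 ?_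
  rw [Scheme.mem_basicOpen _ _ _ (generic_mem G hdom hx α), isUnit_iff_ne_zero]
  exact h1

section tup

variable {b : Y G → (Y G).functionField} {r : ℕ} (T : Tup G hdom hx b r)

include hdom hx in
theorem gen_ne {l : Fin r} {α : Fin (N + 1)} {x : Y G} (hα : x ∈ ychart G α)
    (h : UnitAt x (val G hdom hx α (T.h l))) :
    val G hdom hx α (T.u l) ≠ 0 ∧ T.κ * b x * val G hdom hx 0 (X α) ^ T.e ≠ 0 := by
  have h1 := UnitAt.ne_zero (T.unit l α x hα h)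
  rw [Ne, div_eq_zero_iff, not_or] at h1
  exact h1

include T in
theorem b_ne {α : Fin (N + 1)} {x : Y G} (hα : x ∈ ychart G α) : b x ≠ 0 := by
  obtain ⟨l, hl⟩ := T.cover α x hα
  have h1 := (gen_ne G hdom hx T hα hl).2
  exact fun h0 => h1 (by rw [h0, mul_zero, zero_mul])

theorem u_ne {l : Fin r} (h : mk (eqn G) (T.h l) ≠ 0) : mk (eqn G) (T.u l) ≠ 0 := fun h0 =>
  (gen_ne G hdom hx T (generic_mem G hdom hx 0) (unitAt_generic G hdom hx 0 (T.hh l) h)).1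
    (val_eq_zero G hdom hx 0 h0)

end tup

section core

variable (Q : Type u) [Field Q] [Algebra (A (eqn G)) Q] [IsFractionRing (A (eqn G)) Q]
  (Φ : (Y G).functionField →+* Q)
  (hΦ : ∀ α (P : MvPolynomial (Fin N) K), Φ (ff (ychart G α) (generic_mem G hdom hx α) (toY G α P)) = evx G Q α P)
  {r₁ r₂ : ℕ} (n : Fin r₂ → ℕ) (h : Fin r₂ → MvPolynomial (Fin (N + 1)) K)
  (hh : ∀ l, (h l).IsHomogeneous (n l))
  (c : Fin r₁ → Fin r₂ → (Y G).functionField) (E : Fin r₁ → Fin r₂ → ℤ)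
  (hreg : ∀ k l α (x : Y G), x ∈ ychart G α → UnitAt x (val G hdom hx α (h l)) →
    RegAt x (c k l * val G hdom hx 0 (X α) ^ (-(E k l))))

include hΦ hh hreg in
theorem exists_unif : ∃ M R : ℕ, ∀ k l β, ∃ f : A (eqn G),
    xx G Q β ^ R * vv G Q (h l) ^ M * (Φ (c k l) * xx G Q 0 ^ (E k l)) = algebraMap (A (eqn G)) Q f := by
  choose M R f hf using fun k l => exists_pow G hdom hx Q Φ hΦ (h l) (n l) (hh l) (c k l) (E k l) (hreg k l)
  refine ⟨∑ k, ∑ l, M k l, ∑ k, ∑ l, R k l, fun k l β => ?_⟩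
  have h1 : ∀ F : Fin r₁ → Fin r₂ → ℕ, F k l ≤ ∑ k, ∑ l, F k l := fun F =>
    (Finset.single_le_sum (f := fun l => F k l) (fun _ _ => Nat.zero_le _) (Finset.mem_univ l)).trans
      (Finset.single_le_sum (f := fun k => ∑ l, F k l) (fun _ _ => Nat.zero_le _) (Finset.mem_univ k))
  obtain ⟨m, hm⟩ := Nat.exists_eq_add_of_le (h1 M)
  obtain ⟨s, hs⟩ := Nat.exists_eq_add_of_le (h1 R)
  refine ⟨mk (eqn G) (X β) ^ s * mk (eqn G) (h l) ^ m * f k l β, ?_⟩
  rw [hm, hs, map_mul, map_mul, map_pow, map_pow, ← hf]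
  change _ = xx G Q β ^ s * vv G Q (h l) ^ m * _
  ring

include hΦ hh hreg in
theorem le0_core (hcov : ∀ α (x : Y G), x ∈ ychart G α → ∃ l, UnitAt x (val G hdom hx α (h l)))
    (u : Fin r₁ → Q) (v : Fin r₂ → Q)
    (huv : ∀ k l, mk (eqn G) (h l) ≠ 0 → u k = Φ (c k l) * xx G Q 0 ^ (E k l) * v l) :
    Le0 (eqn G) u v := by
  obtain ⟨M, R, h1⟩ := exists_unif G hdom hx Q Φ hΦ n h hh c E hreg
  intro β
  obtain ⟨R', hR'⟩ := exists_cover G hdom hx n h hh hcov (M + 1) β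
  refine ⟨R + R', fun k => ?_⟩
  have key : ∀ s ∈ Ideal.span (Set.range fun l => mk (eqn G) (h l) ^ (M + 1)),
      algebraMap (A (eqn G)) Q (mk (eqn G) (X β) ^ R * s) * u k ∈
        Submodule.span (A (eqn G)) (Set.range v) := by
    intro s hs
    refine Submodule.span_induction ?_ ?_ ?_ ?_ hs
    · rintro _ ⟨l, rfl⟩
      by_cases h0 : mk (eqn G) (h l) = 0
      · simp only [h0]
        rw [zero_pow (Nat.succ_ne_zero _), mul_zero, map_zero, zero_mul]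
        exact zero_mem _
      obtain ⟨f, hf⟩ := h1 k l β
      have e1 : algebraMap (A (eqn G)) Q (mk (eqn G) (X β) ^ R * mk (eqn G) (h l) ^ (M + 1)) * u k =
          (mk (eqn G) (h l) * f) • v l := by
        rw [Algebra.smul_def, map_mul, map_mul, map_pow, map_pow, ← hf, huv k l h0]
        change xx G Q β ^ R * vv G Q (h l) ^ (M + 1) * _ = vv G Q (h l) * _ * _
        ring
      change algebraMap (A (eqn G)) Q (mk (eqn G) (X β) ^ R * mk (eqn G) (h l) ^ (M + 1)) * u k ∈ _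
      rw [e1]
      exact Submodule.smul_mem _ _ (Submodule.subset_span ⟨l, rfl⟩)
    · rw [mul_zero, map_zero, zero_mul]
      exact zero_mem _
    · intro x y _ _ hx hy
      rw [mul_add, map_add, add_mul]
      exact add_mem hx hy
    · intro t x _ hx
      have e2 : algebraMap (A (eqn G)) Q (mk (eqn G) (X β) ^ R * t • x) * u k =
          t • (algebraMap (A (eqn G)) Q (mk (eqn G) (X β) ^ R * x) * u k) := by
        rw [Algebra.smul_def, smul_eq_mul, mul_left_comm, map_mul, mul_assoc]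
      rw [e2]
      exact Submodule.smul_mem _ _ hx
  have h2 := key _ hR'
  rw [← pow_add] at h2
  rw [Algebra.smul_def]
  exact h2

end core

theorem aux1 {F : Type*} [Field F] (v ak al : F) (hv : v ≠ 0) (mk' ml : ℕ) :
    v ^ mk' * ak / (v ^ ml * al) * v ^ (-((mk' : ℤ) - ml)) = ak / al := by
  rw [zpow_neg, zpow_sub₀ hv, zpow_natCast, zpow_natCast]
  have h1 : v ^ mk' ≠ 0 := pow_ne_zero _ hv
  have h2 : v ^ ml ≠ 0 := pow_ne_zero _ hv
  field_simp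

theorem aux6 {F : Type*} [Field F] (ak al g : F) (hg : g ≠ 0) : ak / g * (al / g)⁻¹ = ak / al := by
  rw [inv_div]
  field_simp

theorem aux7 {F : Type*} [Field F] (xr h Uk Ul z z' : F) (M : ℕ) (hz : z ≠ 0) (hz' : z' ≠ 0) (hl : Ul ≠ 0) :
    xr * h ^ (M + 1) * Uk = h * (xr * h ^ M * (Uk / z / (Ul / z') * (z / z'))) * Ul := by
  field_simp
  ring

/-- (B2) -/
theorem inv0_of_tup {b : Y G → (Y G).functionField} {r : ℕ} (T : Tup G hdom hx b r) :
    Inv0 (eqn G) (fun l => mk (eqn G) (T.u l)) ∧ ∃ l, mk (eqn G) (T.u l) ≠ 0 := by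
  let Q := FractionRing (A (eqn G))
  obtain ⟨Φ, hΦ, -⟩ := exists_phi G hdom hx Q
  refine ⟨fun β => ?_, ?_⟩
  · obtain ⟨M, R, h1⟩ := exists_unif G hdom hx Q Φ hΦ T.n T.h T.hh
      (fun k l => val G hdom hx 0 (T.u k) / val G hdom hx 0 (T.u l)) (fun k l => (T.m k : ℤ) - T.m l) (by
        intro k l α x hα hl
        obtain ⟨hl1, hg⟩ := gen_ne G hdom hx T hα hl
        rw [val_rel G hdom hx 0 α (T.hu k), val_rel G hdom hx 0 α (T.hu l),
          aux1 _ _ _ (val_X_ne_zero G hdom hx 0 α)]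
        have h2 := regAt_mul (T.reg k α x hα) (unitAt_regAt (unitAt_inv (T.unit l α x hα hl)))
        rwa [aux6 _ _ _ hg] at h2)
    obtain ⟨R', hR'⟩ := exists_cover G hdom hx T.n T.h T.hh T.cover (M + 1) β
    refine ⟨R + R', ?_⟩
    rw [pow_add]
    have key : ∀ s ∈ Ideal.span (Set.range fun l => mk (eqn G) (T.h l) ^ (M + 1)),
        mk (eqn G) (X β) ^ R * s ∈ Ideal.span {s : A (eqn G) | ∃ i, mk (eqn G) (T.u i) ≠ 0 ∧
          ∀ l, ∃ c : A (eqn G), s * mk (eqn G) (T.u l) = c * mk (eqn G) (T.u i)} := by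
      intro s hs
      refine Submodule.span_induction ?_ ?_ ?_ ?_ hs
      · rintro _ ⟨l, rfl⟩
        by_cases h0 : mk (eqn G) (T.h l) = 0
        · simp [h0]
        have hu := u_ne G hdom hx T h0
        refine Ideal.subset_span ⟨l, hu, fun k => ?_⟩
        obtain ⟨f, hf⟩ := h1 k l β
        refine ⟨mk (eqn G) (T.h l) * f, ?_⟩
        apply IsFractionRing.injective (A (eqn G)) Q
        have hl0 : vv G Q (T.u l) ≠ 0 := by
          rw [Ne, vv_eq_zero_iff]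
          exact hu
        have hx0 := xx_ne_zero G hx Q 0
        rw [map_mul, map_mul, map_mul, map_mul, map_pow, map_pow, ← hf, map_div₀,
          phi_val G hdom hx Q Φ hΦ 0 (T.hu k), phi_val G hdom hx Q Φ hΦ 0 (T.hu l), zpow_sub₀ hx0,
          zpow_natCast, zpow_natCast]
        exact aux7 (xx G Q β ^ R) (vv G Q (T.h l)) (vv G Q (T.u k)) (vv G Q (T.u l)) _ _ M
          (pow_ne_zero _ hx0) (pow_ne_zero _ hx0) hl0
      · rw [mul_zero]
        exact zero_mem _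
      · intro x y _ _ hx hy
        rw [mul_add]
        exact add_mem hx hy
      · intro t x _ hx
        rw [smul_eq_mul, mul_left_comm]
        exact Ideal.mul_mem_left _ _ hx
    exact key _ hR'
  · obtain ⟨l, hl⟩ := T.cover 0 _ (generic_mem G hdom hx 0)
    refine ⟨l, u_ne G hdom hx T fun h0 => UnitAt.ne_zero hl (val_eq_zero G hdom hx 0 h0)⟩

theorem aux2 {F : Type*} [Field F] (v ak al κ κ' c bx bx' : F) (e e' E : ℤ) (q m m' : ℕ) (hv : v ≠ 0)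
    (hκ : κ ≠ 0) (hκ' : κ' ≠ 0) (hc : c ≠ 0) (hb : bx ≠ 0) (hb' : bx' ≠ 0) (hal : al ≠ 0) :
    (v ^ m * ak) * κ' ^ q * c / (κ * (v ^ m' * al) ^ q) * v ^ (-((m : ℤ) - q * m' - (q * e' - E - e))) =
      ak / (κ * bx * v ^ e) * ((al / (κ' * bx' * v ^ e')) ^ q)⁻¹ * (c * bx / (v ^ E * bx' ^ q)) := by
  have h1 : v ^ (-((m : ℤ) - q * m' - (q * e' - E - e))) =
      (v ^ m)⁻¹ * (v ^ m') ^ q * (v ^ e') ^ q * (v ^ E)⁻¹ * (v ^ e)⁻¹ := by
    rw [← zpow_natCast v m, ← zpow_natCast v m', ← zpow_natCast (v ^ (m' : ℤ)), ← zpow_natCast (v ^ e'),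
      ← zpow_mul, ← zpow_mul, ← zpow_neg, ← zpow_neg, ← zpow_neg, ← zpow_add₀ hv, ← zpow_add₀ hv,
      ← zpow_add₀ hv, ← zpow_add₀ hv]
    congr 1
    ring
  rw [h1]
  have h2 : v ^ m ≠ 0 := pow_ne_zero _ hv
  have h3 : v ^ m' ≠ 0 := pow_ne_zero _ hv
  have h4 : v ^ e ≠ 0 := zpow_ne_zero _ hv
  have h5 : v ^ e' ≠ 0 := zpow_ne_zero _ hv
  have h6 : v ^ E ≠ 0 := zpow_ne_zero _ hv
  generalize v ^ m = V1 at *
  generalize v ^ m' = V2 at *
  generalize v ^ e = V3 at *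
  generalize v ^ e' = V4 at *
  generalize v ^ E = V5 at *
  simp only [mul_pow, div_pow]
  field_simp

theorem aux3 {F : Type*} [Field F] (v ak al κ κ' c bx bx' : F) (e e' E : ℤ) (q m m' : ℕ) (hv : v ≠ 0)
    (hκ : κ ≠ 0) (hκ' : κ' ≠ 0) (hc : c ≠ 0) (hb : bx ≠ 0) (hb' : bx' ≠ 0) (hak : ak ≠ 0) :
    κ * (v ^ m' * al) ^ q / ((v ^ m * ak) * κ' ^ q * c) * v ^ (-(q * m' + (q * e' - E - e) - (m : ℤ))) =
      (al / (κ' * bx' * v ^ e')) ^ q * (ak / (κ * bx * v ^ e))⁻¹ * (c * bx / (v ^ E * bx' ^ q))⁻¹ := by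
  have h1 : v ^ (-(q * m' + (q * e' - E - e) - (m : ℤ))) =
      (v ^ m) * ((v ^ m') ^ q)⁻¹ * ((v ^ e') ^ q)⁻¹ * (v ^ E) * (v ^ e) := by
    rw [← zpow_natCast v m, ← zpow_natCast v m', ← zpow_natCast (v ^ (m' : ℤ)), ← zpow_natCast (v ^ e'),
      ← zpow_mul, ← zpow_mul, ← zpow_neg, ← zpow_neg, ← zpow_add₀ hv, ← zpow_add₀ hv,
      ← zpow_add₀ hv, ← zpow_add₀ hv]
    congr 1
    ring
  rw [h1]
  have h2 : v ^ m ≠ 0 := pow_ne_zero _ hv
  have h3 : v ^ m' ≠ 0 := pow_ne_zero _ hv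
  have h4 : v ^ e ≠ 0 := zpow_ne_zero _ hv
  have h5 : v ^ e' ≠ 0 := zpow_ne_zero _ hv
  have h6 : v ^ E ≠ 0 := zpow_ne_zero _ hv
  generalize v ^ m = V1 at *
  generalize v ^ m' = V2 at *
  generalize v ^ e = V3 at *
  generalize v ^ e' = V4 at *
  generalize v ^ E = V5 at *
  simp only [mul_pow, div_pow]
  field_simp

theorem aux4 {F : Type*} [Field F] (x U U' κ κ' c : F) (e e' E : ℤ) (q m m' : ℕ) (hx : x ≠ 0)
    (hκ : κ ≠ 0) (hκ' : κ' ≠ 0) (hc : c ≠ 0) (hU' : U' ≠ 0) :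
    U = (U / x ^ m) * κ' ^ q * c / (κ * (U' / x ^ m') ^ q) * x ^ ((m : ℤ) - q * m' - (q * e' - E - e)) *
      (κ / (κ' ^ q * c) * x ^ (q * e' - E - e) * U' ^ q) := by
  have h1 : x ^ ((m : ℤ) - q * m' - (q * e' - E - e)) = x ^ m * ((x ^ m') ^ q)⁻¹ * (x ^ (q * e' - E - e))⁻¹ := by
    rw [← zpow_natCast x m, ← zpow_natCast x m', ← zpow_natCast (x ^ (m' : ℤ)),
      ← zpow_mul, ← zpow_neg, ← zpow_neg, ← zpow_add₀ hx, ← zpow_add₀ hx]
    congr 1
    ring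
  rw [h1]
  have h2 : x ^ m ≠ 0 := pow_ne_zero _ hx
  have h3 : x ^ m' ≠ 0 := pow_ne_zero _ hx
  have h4 : x ^ (q * e' - E - e) ≠ 0 := zpow_ne_zero _ hx
  generalize x ^ m = V1 at *
  generalize x ^ m' = V2 at *
  generalize x ^ (q * e' - E - e) = V3 at *
  simp only [div_pow]
  field_simp

theorem aux5 {F : Type*} [Field F] (x U U' κ κ' c : F) (e e' E : ℤ) (q m m' : ℕ) (hx : x ≠ 0)
    (hκ : κ ≠ 0) (hκ' : κ' ≠ 0) (hc : c ≠ 0) (hU : U ≠ 0) :
    κ / (κ' ^ q * c) * x ^ (q * e' - E - e) * U' ^ q =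
      κ * (U' / x ^ m') ^ q / ((U / x ^ m) * κ' ^ q * c) * x ^ (q * m' + (q * e' - E - e) - (m : ℤ)) * U := by
  have h1 : x ^ (q * m' + (q * e' - E - e) - (m : ℤ)) = (x ^ m)⁻¹ * ((x ^ m') ^ q) * (x ^ (q * e' - E - e)) := by
    rw [← zpow_natCast x m, ← zpow_natCast x m', ← zpow_natCast (x ^ (m' : ℤ)),
      ← zpow_mul, ← zpow_neg, ← zpow_add₀ hx, ← zpow_add₀ hx]
    congr 1
    ring
  rw [h1]
  have h2 : x ^ m ≠ 0 := pow_ne_zero _ hx
  have h3 : x ^ m' ≠ 0 := pow_ne_zero _ hx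
  have h4 : x ^ (q * e' - E - e) ≠ 0 := zpow_ne_zero _ hx
  generalize x ^ m = V1 at *
  generalize x ^ m' = V2 at *
  generalize x ^ (q * e' - E - e) = V3 at *
  simp only [div_pow]
  field_simp

variable (Q : Type u) [Field Q] [Algebra (A (eqn G)) Q] [IsFractionRing (A (eqn G)) Q]

/-- (B3) -/
theorem le0_of_tup {b b' : Y G → (Y G).functionField} {r r' : ℕ} (T : Tup G hdom hx b r)
    (T' : Tup G hdom hx b' r') (q : ℕ) (E : ℤ) (c : (Y G).functionField) (hc : c ≠ 0)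
    (h : ∀ α (x : Y G), x ∈ ychart G α → UnitAt x (c * b x / (val G hdom hx 0 (X α) ^ E * b' x ^ q))) :
    ∃ w : Q, w ≠ 0 ∧
      Le0 (eqn G) (fun l => algebraMap (A (eqn G)) Q (mk (eqn G) (T.u l)))
        (fun l => w * algebraMap (A (eqn G)) Q (mk (eqn G) (T'.u l)) ^ q) ∧
      Le0 (eqn G) (fun l => w * algebraMap (A (eqn G)) Q (mk (eqn G) (T'.u l)) ^ q)
        (fun l => algebraMap (A (eqn G)) Q (mk (eqn G) (T.u l))) := by
  obtain ⟨Φ, hΦ, -⟩ := exists_phi G hdom hx Q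
  have hx0 := xx_ne_zero G hx Q 0
  have hκ : Φ T.κ ≠ 0 := (map_ne_zero Φ).2 T.κ_ne
  have hκ' : Φ T'.κ ≠ 0 := (map_ne_zero Φ).2 T'.κ_ne
  have hc' : Φ c ≠ 0 := (map_ne_zero Φ).2 hc
  refine ⟨Φ T.κ / (Φ T'.κ ^ q * Φ c) * xx G Q 0 ^ (q * T'.e - E - T.e), ?_, ?_, ?_⟩
  · exact mul_ne_zero (div_ne_zero hκ (mul_ne_zero (pow_ne_zero _ hκ') hc')) (zpow_ne_zero _ hx0)
  · refine le0_core G hdom hx Q Φ hΦ T'.n T'.h T'.hh
      (fun k l => val G hdom hx 0 (T.u k) * T'.κ ^ q * c / (T.κ * val G hdom hx 0 (T'.u l) ^ q))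
      (fun k l => (T.m k : ℤ) - q * T'.m l - (q * T'.e - E - T.e)) ?_ T'.cover _ _ ?_
    · intro k l α x hα hl
      obtain ⟨hl1, hg⟩ := gen_ne G hdom hx T' hα hl
      rw [val_rel G hdom hx 0 α (T.hu k), val_rel G hdom hx 0 α (T'.hu l),
        aux2 (val G hdom hx 0 (X α)) (val G hdom hx α (T.u k)) (val G hdom hx α (T'.u l)) T.κ T'.κ c (b x) (b' x)
          T.e T'.e E q (T.m k) (T'.m l) (val_X_ne_zero G hdom hx 0 α) T.κ_ne T'.κ_ne hc (b_ne G hdom hx T hα)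
          (b_ne G hdom hx T' hα) hl1]
      exact regAt_mul (regAt_mul (T.reg k α x hα) (unitAt_regAt (unitAt_inv (unitAt_pow (T'.unit l α x hα hl) q))))
        (unitAt_regAt (h α x hα))
    · intro k l h0
      have hu : vv G Q (T'.u l) ≠ 0 := by
        rw [Ne, vv_eq_zero_iff]
        exact u_ne G hdom hx T' h0
      rw [map_div₀, map_mul, map_mul, map_mul, map_pow, map_pow, phi_val G hdom hx Q Φ hΦ 0 (T.hu k),
        phi_val G hdom hx Q Φ hΦ 0 (T'.hu l)]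
      exact aux4 (xx G Q 0) (vv G Q (T.u k)) (vv G Q (T'.u l)) (Φ T.κ) (Φ T'.κ) (Φ c) T.e T'.e E q (T.m k) (T'.m l)
        hx0 hκ hκ' hc' hu
  · refine le0_core G hdom hx Q Φ hΦ T.n T.h T.hh
      (fun l k => T.κ * val G hdom hx 0 (T'.u l) ^ q / (val G hdom hx 0 (T.u k) * T'.κ ^ q * c))
      (fun l k => q * T'.m l + (q * T'.e - E - T.e) - (T.m k : ℤ)) ?_ T.cover _ _ ?_
    · intro l k α x hα hk
      obtain ⟨hk1, hg⟩ := gen_ne G hdom hx T hα hk
      rw [val_rel G hdom hx 0 α (T.hu k), val_rel G hdom hx 0 α (T'.hu l),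
        aux3 (val G hdom hx 0 (X α)) (val G hdom hx α (T.u k)) (val G hdom hx α (T'.u l)) T.κ T'.κ c (b x) (b' x)
          T.e T'.e E q (T.m k) (T'.m l) (val_X_ne_zero G hdom hx 0 α) T.κ_ne T'.κ_ne hc (b_ne G hdom hx T hα)
          (b_ne G hdom hx T' hα) hk1]
      exact regAt_mul (regAt_mul (regAt_pow (T'.reg l α x hα) q) (unitAt_regAt (unitAt_inv (T.unit k α x hα hk))))
        (unitAt_regAt (unitAt_inv (h α x hα)))
    · intro l k h0
      have hu : vv G Q (T.u k) ≠ 0 := by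
        rw [Ne, vv_eq_zero_iff]
        exact u_ne G hdom hx T h0
      rw [map_div₀, map_mul, map_mul, map_mul, map_pow, map_pow, phi_val G hdom hx Q Φ hΦ 0 (T.hu k),
        phi_val G hdom hx Q Φ hΦ 0 (T'.hu l)]
      exact aux5 (xx G Q 0) (vv G Q (T.u k)) (vv G Q (T'.u l)) (Φ T.κ) (Φ T'.κ) (Φ c) T.e T'.e E q (T.m k) (T'.m l)
        hx0 hκ hκ' hc' hu

end Groth.Agent.Lefpen.H121.NL8Tup
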