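import Groth.Agent.Lefpen.H411.ConeDer
import Groth.Agent.Lefpen.H728.LaurReg
import Mathlib.LinearAlgebra.Dimension.Constructions

/-!
# The coordinates do not vanish on a generic complete intersection

If the coefficients of the forms `g_j` of degrees `a_j ≥ 1` are the coordinates of a frame of `K` (a `p`-basis) then no
variable lies in the ideal `(g_j)`.
-/

set_option autoImplicit false

universe u

namespace Groth.Agent.Lefpen.H121.XNe

open MvPolynomial Groth.Agent.Lefpen.H725.Frame Groth.Agent.Lefpen.H411.ConeDer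
open Groth.Agent.Lefpen.H728.LaurReg

variable {K : Type u} [Field K] {N d : ℕ} (g : Fin d → MvPolynomial (Fin (N + 1)) K) {a : Fin d → ℕ}
  [DecidableEq (Cf a N)] (F : Frame K (Cf a N))

theorem X_notMem (ha : ∀ j, 1 ≤ a j) (hh : ∀ j, (g j).IsHomogeneous (a j)) (hd : d < N + 1)
    (hF : ∀ jm, F.z jm = coeff jm.2.1 (g jm.1)) (i : Fin (N + 1)) : X i ∉ Ideal.span (Set.range g) := by
  classical
  intro hi
  -- linear combination with constant coefficients
  have h1 : ∃ c : Fin d → K, (∀ j, a j ≠ 1 → c j = 0) ∧ (X i : MvPolynomial (Fin (N + 1)) K) = ∑ j, C (c j) * g j := by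
    rw [Ideal.span, Submodule.mem_span_range_iff_exists_fun] at hi
    obtain ⟨H, hH⟩ := hi
    have hX : HomZ (X i : MvPolynomial (Fin (N + 1)) K) 1 := by
      have := (homZ_iff (n := 1)).2 (isHomogeneous_X K i)
      exact_mod_cast this
    refine ⟨fun j => if a j = 1 then constantCoeff (compZ (1 - (a j : ℤ)) (H j)) else 0,
      fun j hj => if_neg hj, ?_⟩
    rw [← compZ_eq_self hX, ← hH, map_sum]
    refine Finset.sum_congr rfl fun j _ => ?_
    rw [smul_eq_mul, mul_comm (H j), compZ_mul (hh j), mul_comm]
    have h2 := homZ_compZ (1 - (a j : ℤ)) (H j)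
    by_cases haj : a j = 1
    · beta_reduce
      rw [if_pos haj]
      congr 1
      have h3 : (compZ (1 - (a j : ℤ)) (H j)).IsHomogeneous 0 := by
        rw [← homZ_iff]
        rw [haj] at h2 ⊢
        exact_mod_cast h2
      have h4 : (compZ (1 - (a j : ℤ)) (H j)).totalDegree = 0 := (totalDegree_zero_iff_isHomogeneous _).2 h3
      exact (totalDegree_eq_zero_iff_eq_C.1 h4).trans (by rw [constantCoeff_eq])
    · have h5 := ha j
      beta_reduce
      rw [h2.eq_zero (by omega), zero_mul, if_neg haj, C_0, zero_mul]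
  obtain ⟨c, hc, hXi⟩ := h1
  obtain ⟨j₀, hj₀⟩ : ∃ j, c j ≠ 0 := by
    by_contra hne
    push Not at hne
    refine X_ne_zero (R := K) i ?_
    rw [hXi]
    exact Finset.sum_eq_zero fun j _ => by rw [hne, C_0, zero_mul]
  have ha0 : a j₀ = 1 := by
    by_contra h
    exact hj₀ (hc j₀ h)
  -- all variables lie in the span of the `g_j`
  have hspan : ∀ m : Fin (N + 1), (X m : MvPolynomial (Fin (N + 1)) K) ∈ Submodule.span K (Set.range g) := by
    intro m
    set e : Cf a N := ⟨j₀, ⟨Finsupp.single m 1, by rw [Finsupp.degree_single, ha0]⟩⟩ with he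
    have hmul : ∀ (r : K) (P : MvPolynomial (Fin (N + 1)) K), cD (F.D e) (C r * P) =
        C (F.D e r) * P + C r * cD (F.D e) P := by
      intro r P
      ext n
      rw [coeff_cD, coeff_C_mul, coeff_add, coeff_C_mul, coeff_C_mul, coeff_cD, Derivation.leibniz, smul_eq_mul,
        smul_eq_mul]
      ring
    have h2 : cD (F.D e) (X i : MvPolynomial (Fin (N + 1)) K) = ∑ j, (C (F.D e (c j)) * g j) + C (c j₀) * X m := by
      rw [hXi]
      have h3 : ∀ s : Finset (Fin d), cD (F.D e) (∑ j ∈ s, C (c j) * g j) = ∑ j ∈ s, cD (F.D e) (C (c j) * g j) := by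
        intro s
        induction s using Finset.induction_on with
        | empty =>
          rw [Finset.sum_empty, Finset.sum_empty]
          ext n
          rw [coeff_cD, coeff_zero, map_zero]
        | insert j s hj ih => rw [Finset.sum_insert hj, Finset.sum_insert hj, cD_add, ih]
      rw [h3]
      simp only [hmul, Finset.sum_add_distrib]
      congr 1
      rw [Finset.sum_eq_single j₀]
      · rw [cD_g g F hh hF e j₀, if_pos rfl]
        rfl
      · intro j _ hj
        rw [cD_g g F hh hF e j, if_neg hj, mul_zero]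
      · intro h; exact absurd (Finset.mem_univ _) h
    rw [cD_X] at h2
    have h4 : (X m : MvPolynomial (Fin (N + 1)) K) = ∑ j, (-(c j₀)⁻¹ * F.D e (c j)) • g j := by
      have h5 : C (c j₀) * X m = - ∑ j, (C (F.D e (c j)) * g j) := by
        rw [eq_neg_iff_add_eq_zero]; exact (add_comm _ _).trans h2.symm
      have h6 : (X m : MvPolynomial (Fin (N + 1)) K) = C (c j₀)⁻¹ * (C (c j₀) * X m) := by
        rw [← mul_assoc, ← C_mul, inv_mul_cancel₀ hj₀, C_1, one_mul]
      rw [h6, h5, mul_neg, Finset.mul_sum, ← Finset.sum_neg_distrib]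
      refine Finset.sum_congr rfl fun j _ => ?_
      rw [smul_eq_C_mul, C_mul, C_neg, neg_mul, neg_mul, mul_assoc]
    rw [h4]
    exact Submodule.sum_mem _ fun j _ => Submodule.smul_mem _ _ (Submodule.subset_span ⟨j, rfl⟩)
  have hli : LinearIndependent K (fun m : Fin (N + 1) => (X m : MvPolynomial (Fin (N + 1)) K)) := by
    rw [Fintype.linearIndependent_iff]
    intro c' hc' m
    have h2 := congrArg (coeff (Finsupp.single m 1)) hc'
    rw [coeff_sum, Finset.sum_eq_single m] at h2
    · rw [coeff_smul, coeff_X, if_pos rfl, smul_eq_mul, mul_one, coeff_zero] at h2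
      exact h2
    · intro m' _ hm'
      rw [coeff_smul, coeff_X, if_neg (fun h => hm' (Finsupp.single_left_injective one_ne_zero h)), smul_zero]
    · intro h; exact absurd (Finset.mem_univ _) h
  let W := Submodule.span K (Set.range g)
  have hfd : Module.Finite K W := Module.Finite.span_of_finite K (Set.finite_range g)
  have hli' : LinearIndependent K (fun m : Fin (N + 1) => (⟨X m, hspan m⟩ : W)) :=
    LinearIndependent.of_comp W.subtype hli
  have h7 := hli'.fintype_card_le_finrank
  have h8 : Module.finrank K W ≤ d := by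
    have := finrank_range_le_card (R := K) g
    rwa [Fintype.card_fin] at this
  rw [Fintype.card_fin] at h7
  omega

end Groth.Agent.Lefpen.H121.XNe
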