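import Groth.Agent.Lefpen.H121.Inst
import Groth.Agent.Lefpen.H121.XNe
import Groth.Agent.Lefpen.H725.Arith
import Groth.Agent.Lefpen.H718.Grade
import Groth.Agent.Lefpen.H411.ConeR

/-!
# The concrete `Core.Setup` and `Arith.AData` of the cone over a generic complete intersection
-/

set_option autoImplicit false
universe u
open MvPolynomial

namespace Groth.Agent.Lefpen.H121.T2
open Groth.Agent.Lefpen.H725.Core Groth.Agent.Lefpen.H725.Frame Groth.Agent.Lefpen.H725.Arith
open Groth.Agent.Lefpen.H718.Reg Groth.Agent.Lefpen.H718.ConeCM Groth.Agent.Lefpen.H718.Grade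
open Groth.Agent.Lefpen.H121 Groth.Agent.Lefpen.H728.LaurReg Groth.Agent.CohqA.LaurentLoc

section

variable {K : Type u} [Field K] {N d : ℕ} (g : Fin d → MvPolynomial (Fin (N + 1)) K)
  (Q : Type u) [Field Q] [Algebra (A g) Q] [IsFractionRing (A g) Q]

/-- The structure of a `K`-algebra on the function field. -/
noncomputable abbrev algK : Algebra K Q := ((algebraMap (A g) Q).comp ((mk g).comp C)).toAlgebra

/-- The coordinates. -/
noncomputable def xc (i : Fin (N + 1)) : Q := algebraMap (A g) Q (mk g (X i))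

omit [IsFractionRing (A g) Q] in
theorem aeval_xc (P : MvPolynomial (Fin (N + 1)) K) :
    letI := algK g Q
    aeval (xc g Q) P = algebraMap (A g) Q (mk g P) := by
  letI := algK g Q
  have h : (aeval (xc g Q) : MvPolynomial (Fin (N + 1)) K →ₐ[K] Q).toRingHom = (algebraMap (A g) Q).comp (mk g) := by
    apply MvPolynomial.ringHom_ext
    · intro r
      change aeval (xc g Q) (C r) = _
      rw [aeval_C]; rfl
    · intro i
      change aeval (xc g Q) (X i) = _
      rw [aeval_X]; rfl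
  exact congrArg (fun f : MvPolynomial (Fin (N + 1)) K →+* Q => f P) h

theorem ker_xc :
    letI := algK g Q
    RingHom.ker (aeval (xc g Q) : MvPolynomial (Fin (N + 1)) K →ₐ[K] Q) = Ideal.span (Set.range g) := by
  letI := algK g Q
  ext P
  rw [RingHom.mem_ker]
  change aeval (xc g Q) P = 0 ↔ _
  rw [aeval_xc, map_eq_zero_iff _ (IsFractionRing.injective (A g) Q)]
  exact Ideal.Quotient.eq_zero_iff_mem

theorem frac_xc :
    letI := algK g Q
    ∀ q : Q, ∃ P P' : MvPolynomial (Fin (N + 1)) K, aeval (xc g Q) P' ≠ 0 ∧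
      q * aeval (xc g Q) P' = aeval (xc g Q) P := by
  letI := algK g Q
  intro q
  obtain ⟨P, P', h1, h2⟩ := Groth.Agent.Lefpen.H411.ConeDer.exists_div g Q q
  exact ⟨P, P', by rw [aeval_xc]; exact h1, by rw [aeval_xc, aeval_xc]; exact h2⟩

theorem exists_setup' (p : ℕ) [Fact p.Prime] [CharP K p] {a : Fin d → ℕ} (ha : ∀ j, 1 ≤ a j)
    (hh : ∀ j, (g j).IsHomogeneous (a j)) (hJ : JacCond g) (hN : N = 2 + d) (hex : 2 < ∑ j, (a j - 1))
    [Fintype (Σ j : Fin d, {m : Fin (N + 1) →₀ ℕ // m.degree = a j})]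
    [DecidableEq (Σ j : Fin d, {m : Fin (N + 1) →₀ ℕ // m.degree = a j})]
    (F : Frame K (Σ j : Fin d, {m : Fin (N + 1) →₀ ℕ // m.degree = a j}))
    (hF : ∀ jm, F.z jm = coeff jm.2.1 (g jm.1)) :
    ∃ (S : Setup Q (Fin (N + 1)) (Σ j : Fin d, {m : Fin (N + 1) →₀ ℕ // m.degree = a j}) (Fin d)) (T : AData S K p),
      (∀ c, T.ι c = algebraMap (A g) Q (mk g (C c))) ∧
      (∀ i, S.z (Sum.inr i) = algebraMap (A g) Q (mk g (X i))) ∧
      (∀ (m : ℤ) (x : Q), x ∈ S.R ∅ m ↔ (x = 0 ∨ ∃ D : ℕ, (D : ℤ) = m ∧ ∃ P : MvPolynomial (Fin (N + 1)) K,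
        P.IsHomogeneous D ∧ x = algebraMap (A g) Q (mk g P))) := by
  classical
  letI := algK g Q
  have hxne : ∀ i, xc g Q i ≠ 0 := by
    intro i h
    have h1 := XNe.X_notMem g F ha hh (by omega) hF i
    apply h1
    rw [← Ideal.Quotient.eq_zero_iff_mem]
    exact (map_eq_zero_iff _ (IsFractionRing.injective (A g) Q)).1 h
  have hsum : ((N + 1 : ℕ) : ℤ) ≤ ∑ j, (a j : ℤ) := by
    have h1 : ∑ j, (a j - 1) + d = ∑ j, a j := by
      have h2 : ∑ j : Fin d, (a j - 1) + ∑ _j : Fin d, 1 = ∑ j, a j := by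
        rw [← Finset.sum_add_distrib]
        exact Finset.sum_congr rfl fun j _ => Nat.sub_add_cancel (ha j)
      simpa using h2
    have h3 : N + 1 ≤ ∑ j, a j := by omega
    exact_mod_cast h3
  have hht := le_height g hJ (by omega : d ≤ N + 1)
  have hker := ker_xc g Q
  let S := Inst.inst (xc g Q) hxne a F g ha hh hht hker (frac_xc g Q) (by omega) hsum hF
  have hSR : ∀ (I : Finset (Fin (N + 1))) (m : ℤ) (q : Q), q ∈ S.R I m ↔
    q ∈ InstCech.R (K := K) (xc g Q) hxne (↑I : Set (Fin (N + 1))) m := fun _ _ _ => Iff.rfl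
  have hz : ∀ b, S.z b = Groth.Agent.Lefpen.H411.ConeDer.zz g Q F.z b := by
    intro b
    rcases b with e | i
    · change algebraMap K Q (coeff e.2.1 (g e.1)) = algebraMap (A g) Q (mk g (C (F.z e)))
      rw [hF]; rfl
    · rfl
  have hzr : ∀ i, S.z (Sum.inr i) = xc g Q i := fun _ => rfl
  -- the elements of `R ∅ m`
  have hR0 : ∀ (m : ℤ) (x : Q), x ∈ S.R ∅ m ↔ (x = 0 ∨ ∃ D : ℕ, (D : ℤ) = m ∧
      ∃ P : MvPolynomial (Fin (N + 1)) K, P.IsHomogeneous D ∧ x = algebraMap (A g) Q (mk g P)) := by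
    intro m x
    rw [hSR, Finset.coe_empty, InstCech.R_empty]
    constructor
    · rintro ⟨P, hP, rfl⟩
      by_cases hm : 0 ≤ m
      · obtain ⟨n, rfl⟩ := Int.eq_ofNat_of_zero_le hm
        exact Or.inr ⟨n, rfl, P, homZ_iff.1 hP, aeval_xc g Q P⟩
      · left; rw [hP.eq_zero (not_le.1 hm), map_zero]
    · rintro (rfl | ⟨D, rfl, P, hP, rfl⟩)
      · exact ⟨0, fun c hc => absurd (coeff_zero c) hc, map_zero _⟩
      · exact ⟨P, homZ_iff.2 hP, aeval_xc g Q P⟩
  have hglob : ∀ (m : ℤ) (x : Q), (∀ α, x ∈ S.R {α} m) → x ∈ InstCech.R (K := K) (xc g Q) hxne ∅ m := by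
    intro m x hx
    refine InstCech.glob (xc g Q) hxne g a ha hh hht hker (by omega) m x fun i => ?_
    have := hx i
    rwa [hSR, Finset.coe_singleton] at this
  -- products of coordinates
  have hprod : ∀ (I : Finset (Fin (N + 1))) (n : ℕ), (∏ i ∈ I, xc g Q i) ^ n =
      ∏ i, xc g Q i ^ (indE (↑I : Set (Fin (N + 1))) n i) := by
    intro I n
    rw [← Finset.prod_pow]
    have h1 : ∀ i, xc g Q i ^ (indE (↑I : Set (Fin (N + 1))) n i) = if i ∈ I then xc g Q i ^ n else 1 := by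
      intro i
      unfold indE
      by_cases hi : i ∈ I
      · rw [if_pos (Finset.mem_coe.2 hi), if_pos hi, zpow_natCast]
      · rw [if_neg (fun h => hi (Finset.mem_coe.1 h)), if_neg hi, zpow_zero]
    simp only [h1]
    rw [Finset.prod_ite, Finset.prod_const_one, mul_one]
    congr 1
    ext i; simp
  have hcard : ∀ (I : Finset (Fin (N + 1))) (n : ℕ), ∑ i, indE (↑I : Set (Fin (N + 1))) n i = n * I.card := by
    intro I n
    rw [sum_indE]
    congr 2
    congr 1
    ext i; simp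
  have hmemR : ∀ (I : Finset (Fin (N + 1))) (m : ℤ) (x : Q),
      x ∈ S.R I m ↔ ∃ n : ℕ, (∏ i ∈ I, S.z (Sum.inr i)) ^ n * x ∈ S.R ∅ (m + n * I.card) := by
    intro I m x
    rw [hSR]
    simp only [hSR, hzr, Finset.coe_empty, hprod]
    constructor
    · rintro ⟨f, hf, rfl⟩
      obtain ⟨e, he⟩ := exists_clear (↑I : Set (Fin (N + 1))) m f hf
      obtain ⟨P, hP, hPf⟩ := he e le_rfl
      refine ⟨e, (InstCech.R_empty (xc g Q) hxne).2 ⟨P, ?_, ?_⟩⟩
      · rw [hcard] at hP
        exact hP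
      · rw [← InstCech.ev_toLaurent (xc g Q) hxne, hPf, map_mul, InstCech.ev_single, map_one, one_mul, mul_comm]
        rfl
    · rintro ⟨n, hn⟩
      obtain ⟨P, hP, hPx⟩ := (InstCech.R_empty (xc g Q) hxne).1 hn
      refine ⟨toLaurent P * AddMonoidAlgebra.single (-indE (↑I : Set (Fin (N + 1))) n) 1, ?_, ?_⟩
      · have h4 := mem_Lsub_of_homZ (↑I : Set (Fin (N + 1))) n hP
        rw [hcard, add_sub_cancel_right] at h4
        exact h4
      · change InstCech.ev (xc g Q) hxne _ = x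
        rw [map_mul, InstCech.ev_toLaurent, InstCech.ev_single, map_one, one_mul, hPx]
        have h5 : (∏ i, xc g Q i ^ (-indE (↑I : Set (Fin (N + 1))) n) i) *
            ∏ i, xc g Q i ^ (indE (↑I : Set (Fin (N + 1))) n i) = 1 := by
          rw [← Finset.prod_mul_distrib]
          refine Finset.prod_eq_one fun i _ => ?_
          rw [Pi.neg_apply, ← zpow_add₀ (hxne i), neg_add_cancel, zpow_zero]
        rw [mul_assoc, mul_comm x, ← mul_assoc, mul_comm (∏ i, _), h5, one_mul]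
  have hxi : ∃ i, Groth.Agent.Lefpen.H411.ConeDer.toQ g Q (X i) ≠ 0 := ⟨0, hxne 0⟩
  obtain ⟨T, hT1, hT2, hT3⟩ := Groth.Agent.Lefpen.H411.ConeDer.exists_T g Q F hh hF p hJ hxi
  refine ⟨S, ⟨algebraMap K Q, F, fun e => ?_, fun c I => ?_, fun D c => ?_, T, fun e e' => ?_, hT2, hT3, fun k => rfl,
    hxne, fun b I => ?_, fun m x hm hx => ?_, fun x hx => ?_, fun α m x hx => ?_, fun I m x => ?_,
    fun D h0 h1 m x hx => ?_, fun l => ?_⟩, fun c => rfl, fun i => rfl, hR0⟩
  · change algebraMap K Q (F.z e) = algebraMap K Q (coeff e.2.1 (g e.1))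
    rw [hF]
  · exact InstCech.algebraMap_mem_R (xc g Q) hxne _ c
  · rw [InstDer.der_const a F D c]
    refine Finset.sum_congr rfl fun e _ => ?_
    rw [mul_comm]
    change D (algebraMap K Q (F.z e)) * _ = D (algebraMap K Q (coeff e.2.1 (g e.1))) * _
    rw [hF]
  · rw [hz]; exact hT1 e e'
  · rcases b with e | i
    · exact InstCech.algebraMap_mem_R (xc g Q) hxne _ _
    · change xc g Q i ∈ InstCech.R (K := K) (xc g Q) hxne _ 1
      have := InstCech.aeval_mem_R (xc g Q) hxne (↑I : Set (Fin (N + 1))) (isHomogeneous_X K i) (m := 1) (by simp)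
      rwa [aeval_X] at this
  · exact InstCech.R_empty_neg (K := K) (xc g Q) hxne hm (hglob m x hx)
  · obtain ⟨c, hc⟩ := InstCech.R_empty_zero (K := K) (xc g Q) hxne (hglob 0 x hx)
    exact ⟨c, hc.symm⟩
  · -- roots
    have hg0 : ∀ i, constantCoeff (g i) = 0 := fun i => by
      rw [constantCoeff_eq]
      exact (hh i).coeff_eq_zero (by rw [map_zero]; exact (by have := ha i; omega))
    have hcl := isIntegrallyClosed g hh hg0 hJ hN one_le_two
    have key : ∀ (m : ℤ) (y : Q), y ∈ S.R {α} m ↔ ∃ n : ℕ, xc g Q α ^ n * y ∈ Groth.Agent.Lefpen.H411.ConeR.Hm g Q (m + n) := by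
      intro m y
      rw [hmemR {α} m y]
      simp only [Finset.prod_singleton, Finset.card_singleton, Nat.cast_one, mul_one, hzr]
      refine exists_congr fun n => ?_
      rw [hR0]
      exact Iff.rfl
    rw [key] at hx ⊢
    refine Groth.Agent.Lefpen.H411.ConeR.root' g Q hh hcl p (Fact.out : p.Prime).pos m x (xc g Q α) ?_ (hxne α) hx
    have := Groth.Agent.Lefpen.H411.ConeR.toQ_mem g Q (isHomogeneous_X K α)
    rw [Nat.cast_one] at this
    exact this
  · exact hmemR I m x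
  · rcases (hR0 m x).1 hx with rfl | ⟨n, rfl, P, hP, rfl⟩
    · rw [map_zero, mul_zero]
    · have h2 := Groth.Agent.Lefpen.H411.ConeDer.euler g Q F D (fun e => by rw [← hz]; exact h0 e)
        (fun k => by rw [← hz]; exact h1 k) hP
      rw [Int.cast_natCast]
      exact h2
  · have h2 := Groth.Agent.Lefpen.H411.ConeDer.euler_tangent g Q F hh l
    rw [← h2]
    refine Finset.sum_congr rfl fun k _ => ?_
    rw [← hz (Sum.inr k)]
    congr 1
    exact aeval_xc g Q (pderiv k (g l))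

end

/-- The cone over a smooth generic complete intersection of dimension two. -/
theorem exists_setup {K : Type u} [Field K] (p : ℕ) [Fact p.Prime] [CharP K p] {N d : ℕ}
    (g : Fin d → MvPolynomial (Fin (N + 1)) K) {a : Fin d → ℕ} (ha : ∀ j, 1 ≤ a j)
    (hh : ∀ j, (g j).IsHomogeneous (a j)) (hJ : JacCond g) (hN : N = 2 + d) (hex : 2 < ∑ j, (a j - 1))
    [Fintype (Σ j : Fin d, {m : Fin (N + 1) →₀ ℕ // m.degree = a j})]
    [DecidableEq (Σ j : Fin d, {m : Fin (N + 1) →₀ ℕ // m.degree = a j})]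
    (F : Frame K (Σ j : Fin d, {m : Fin (N + 1) →₀ ℕ // m.degree = a j}))
    (hF : ∀ jm, F.z jm = coeff jm.2.1 (g jm.1))
    (Q : Type u) [Field Q] [Algebra (A g) Q] [IsFractionRing (A g) Q] :
    ∃ (S : Setup Q (Fin (N + 1)) (Σ j : Fin d, {m : Fin (N + 1) →₀ ℕ // m.degree = a j}) (Fin d)) (T : AData S K p),
      (∀ c, T.ι c = algebraMap (A g) Q (mk g (C c))) ∧
      (∀ i, S.z (Sum.inr i) = algebraMap (A g) Q (mk g (X i))) ∧
      (∀ (m : ℤ) (x : Q), x ∈ S.R ∅ m ↔ (x = 0 ∨ ∃ D : ℕ, (D : ℤ) = m ∧ ∃ P : MvPolynomial (Fin (N + 1)) K,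
        P.IsHomogeneous D ∧ x = algebraMap (A g) Q (mk g P))) :=
  exists_setup' g Q p ha hh hJ hN hex F hF

end Groth.Agent.Lefpen.H121.T2
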